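import Groth.Agent.ParaF26.Elkik.Principal
import Mathlib.RingTheory.Flat.EquationalCriterion
import Mathlib.RingTheory.Noetherian.Basic

/-!
Elkik approximation for presentations of modules which are projective off a closed subset, along a
finitely generated ideal of a henselian pair.
-/

set_option autoImplicit false
set_option linter.style.haveILetI false

universe u

open Matrix

namespace Groth.Agent.ParaF26.Elkik

section EqMod

variable {B : Type u} [CommRing B] {l p q : ℕ}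

/-- Matrices congruent modulo `I`. -/
def EqMod (I : Ideal B) (X Y : Matrix (Fin l) (Fin p) B) : Prop := ∀ i j, X i j - Y i j ∈ I

theorem EqMod.refl (I : Ideal B) (X : Matrix (Fin l) (Fin p) B) : EqMod I X X := fun i j => by simp

theorem EqMod.symm {I : Ideal B} {X Y : Matrix (Fin l) (Fin p) B} (h : EqMod I X Y) : EqMod I Y X :=
  fun i j => by rw [← neg_sub]; exact neg_mem (h i j)

theorem EqMod.trans {I : Ideal B} {X Y Z : Matrix (Fin l) (Fin p) B} (h : EqMod I X Y) (h' : EqMod I Y Z) :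
    EqMod I X Z := fun i j => by rw [← sub_add_sub_cancel _ (Y i j)]; exact add_mem (h i j) (h' i j)

theorem EqMod.mono {I J : Ideal B} (hIJ : I ≤ J) {X Y : Matrix (Fin l) (Fin p) B} (h : EqMod I X Y) :
    EqMod J X Y := fun i j => hIJ (h i j)

theorem eqMod_iff_map {I : Ideal B} {X Y : Matrix (Fin l) (Fin p) B} :
    EqMod I X Y ↔ X.map (Ideal.Quotient.mk I) = Y.map (Ideal.Quotient.mk I) :=
  ⟨fun h => Matrix.ext fun i j => Ideal.Quotient.eq.2 (h i j),
    fun h i j => Ideal.Quotient.eq.1 (congrFun (congrFun h i) j)⟩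

theorem EqMod.mul {I : Ideal B} {X X' : Matrix (Fin l) (Fin p) B} {Y Y' : Matrix (Fin p) (Fin q) B}
    (h : EqMod I X X') (h' : EqMod I Y Y') : EqMod I (X * Y) (X' * Y') := by
  rw [eqMod_iff_map] at h h' ⊢
  rw [Matrix.map_mul, Matrix.map_mul, h, h']

theorem EqMod.smul {I : Ideal B} (a : B) {X Y : Matrix (Fin l) (Fin p) B} (h : EqMod I X Y) :
    EqMod I (a • X) (a • Y) := fun i j => by
  rw [Matrix.smul_apply, Matrix.smul_apply, smul_eq_mul, smul_eq_mul, ← mul_sub]
  exact I.mul_mem_left a (h i j)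

theorem eqMod_add_smul (a : B) (X D : Matrix (Fin l) (Fin p) B) : EqMod (Ideal.span {a}) (X + a • D) X :=
  fun i j => by
    rw [Matrix.add_apply, add_sub_cancel_left, Matrix.smul_apply, smul_eq_mul, Ideal.mem_span_singleton]
    exact dvd_mul_right _ _

theorem EqMod.exists_smul {a : B} {X Y : Matrix (Fin l) (Fin p) B} (h : EqMod (Ideal.span {a}) X Y) :
    ∃ E, X = Y + a • E := by
  choose E hE using fun i j => Ideal.mem_span_singleton'.1 (h i j)
  exact ⟨Matrix.of E, Matrix.ext fun i j => by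
    rw [Matrix.add_apply, Matrix.smul_apply, Matrix.of_apply, smul_eq_mul, mul_comm, hE, add_sub_cancel]⟩

theorem exists_map_eq {B' : Type u} [CommRing B'] (π : B →+* B') (hπ : Function.Surjective π)
    (X : Matrix (Fin l) (Fin p) B') : ∃ Y : Matrix (Fin l) (Fin p) B, Y.map π = X :=
  ⟨Matrix.of fun i j => (hπ (X i j)).choose, Matrix.ext fun i j => (hπ (X i j)).choose_spec⟩

theorem map_smul_mat {B' : Type u} [CommRing B'] (π : B →+* B') (a : B) (X : Matrix (Fin l) (Fin p) B) :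
    (a • X).map π = π a • X.map π :=
  Matrix.ext fun i j => by simp only [Matrix.map_apply, Matrix.smul_apply, smul_eq_mul, map_mul]

end EqMod

/-- Bounded torsion modulo every ideal coming from the base. -/
def QBdd {B₀ B : Type u} [CommRing B₀] [CommRing B] (f : B₀ →+* B) : Prop :=
  ∀ (K : Ideal B₀) (b : B₀), ∃ c : ℕ, ∀ (x : B) (m : ℕ), f b ^ m * x ∈ K.map f → f b ^ c * x ∈ K.map f

theorem QBdd.bdd {B₀ B : Type u} [CommRing B₀] [CommRing B] {f : B₀ →+* B} (h : QBdd f) (b : B₀) :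
    ∃ c, Bdd (f b) c := by
  obtain ⟨c, hc⟩ := h ⊥ b
  refine ⟨c, fun x m hx => ?_⟩
  simpa [Ideal.map_bot] using hc x m (by simp [hx])

theorem QBdd.quotient {B₀ B : Type u} [CommRing B₀] [CommRing B] {f : B₀ →+* B} (h : QBdd f) (K₀ : Ideal B₀) :
    QBdd ((Ideal.Quotient.mk (K₀.map f)).comp f) := by
  intro K b
  obtain ⟨c, hc⟩ := h (K ⊔ K₀) b
  refine ⟨c, fun x m hx => ?_⟩
  obtain ⟨y, rfl⟩ := Ideal.Quotient.mk_surjective x
  rw [← Ideal.map_map, RingHom.comp_apply, ← map_pow, ← map_mul, Ideal.mem_quotient_iff_mem_sup, ← Ideal.map_sup] at hx ⊢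
  exact hc y m hx

/-- A flat algebra over a Noetherian ring has bounded torsion modulo every ideal of the base. -/
theorem qbdd_of_flat {B₀ B : Type u} [CommRing B₀] [IsNoetherianRing B₀] [CommRing B] [Algebra B₀ B]
    [Module.Flat B₀ B] : QBdd (algebraMap B₀ B) := by
  classical
  intro K b
  let chain : ℕ →o Ideal B₀ := ⟨fun m => Submodule.comap (LinearMap.mulLeft B₀ (b ^ m)) K, fun m n hmn a ha => by
    show b ^ n * a ∈ K
    obtain ⟨d, rfl⟩ := Nat.exists_eq_add_of_le hmn
    rw [pow_add, mul_comm (b ^ m), mul_assoc]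
    exact K.mul_mem_left _ ha⟩
  obtain ⟨c, hc⟩ := monotone_stabilizes_iff_noetherian.2 (inferInstance : IsNoetherian B₀ B₀) chain
  refine ⟨c, fun x m hx => ?_⟩
  obtain ⟨p, g, hg⟩ := Submodule.fg_iff_exists_fin_generating_family.1 (IsNoetherian.noetherian K)
  have hgK : ∀ i, g i ∈ K := fun i => hg ▸ Submodule.subset_span ⟨i, rfl⟩
  have hK : K.map (algebraMap B₀ B) = Ideal.span (Set.range fun i => algebraMap B₀ B (g i)) := by
    rw [← hg, Ideal.submodule_span_eq, Ideal.map_span, ← Set.range_comp]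
    rfl
  rw [hK, Ideal.mem_span_range_iff_exists_fun] at hx
  obtain ⟨y, hy⟩ := hx
  let F : Option (Fin p) → B₀ := fun o => o.elim (b ^ m) fun i => -g i
  let Xv : Option (Fin p) → B := fun o => o.elim x y
  have hrel : ∑ o, F o • Xv o = 0 := by
    rw [Fintype.sum_option]
    show b ^ m • x + ∑ i, (-g i) • y i = 0
    simp only [Algebra.smul_def, map_pow, map_neg, neg_mul, Finset.sum_neg_distrib, ← hy]
    rw [← sub_eq_add_neg, sub_eq_zero]
    exact Finset.sum_congr rfl fun i _ => mul_comm _ _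
  obtain ⟨k, a, z, hz, ha⟩ := Module.Flat.isTrivialRelation_of_sum_smul_eq_zero (R := B₀) hrel
  have hxz : x = ∑ j, a none j • z j := hz none
  rw [hxz, Finset.mul_sum]
  refine sum_mem fun j _ => ?_
  rw [Algebra.smul_def, ← mul_assoc, ← map_pow, ← map_mul]
  refine Ideal.mul_mem_right _ _ (Ideal.mem_map_of_mem _ ?_)
  have h1 : a none j ∈ chain m := by
    show b ^ m * a none j ∈ K
    have h2 := ha j
    rw [Fintype.sum_option] at h2
    change b ^ m * a none j + ∑ i, (-g i) * a (some i) j = 0 at h2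
    rw [eq_neg_of_add_eq_zero_left h2]
    exact neg_mem (sum_mem fun i _ => K.mul_mem_right _ (neg_mem (hgK i)))
  exact (hc (max m c) (le_max_right _ _)).ge (chain.monotone (le_max_left _ _) h1)

variable {B₀ : Type u} [CommRing B₀] {ι : Type} {n m : ℕ}

theorem span_cons {B : Type u} [CommRing B] (s : ι → B) (a : ι) (L : List ι) :
    Ideal.span (s '' {j | j ∈ a :: L}) = Ideal.span {s a} ⊔ Ideal.span (s '' {j | j ∈ L}) := by
  rw [show {j | j ∈ a :: L} = insert a {j | j ∈ L} by ext z; simp, Set.image_insert_eq, Ideal.span_insert]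

theorem span_quotient {B : Type u} [CommRing B] (K : Ideal B) (s : ι → B) (L : List ι) :
    Ideal.span ((fun j => Ideal.Quotient.mk K (s j)) '' {j | j ∈ L}) =
      (Ideal.span (s '' {j | j ∈ L})).map (Ideal.Quotient.mk K) := by
  rw [Ideal.map_span, Set.image_image]

theorem le_sup_pow_add {B : Type u} [CommRing B] (t : B) (J : Ideal B) (r q : ℕ) :
    (Ideal.span {t} ⊔ J) ^ (r + q) ≤ Ideal.span {t ^ r} ⊔ J ^ q :=
  Ideal.sup_pow_add_le_pow_sup_pow.trans (sup_le_sup_right (Ideal.span_singleton_pow t r).le _)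

/-- Near solutions of `φ ψᵢ φ = sᵢ φ` are near solutions along the ideal of the listed `sᵢ`. -/
theorem exists_solution : ∀ (L : List ι) (B : Type u) [CommRing B] (f : B₀ →+* B), QBdd f →
    ∀ (s : ι → B) (b : ι → B₀), (∀ j ∈ L, f (b j) = s j) →
    HenselianRing B (Ideal.span (s '' {j | j ∈ L})) → ∀ k : ℕ, ∃ q : ℕ, k ≤ q ∧
      ∀ (φ : Matrix (Fin n) (Fin m) B) (ψ : ι → Matrix (Fin m) (Fin n) B),
        (∀ i, EqMod (Ideal.span (s '' {j | j ∈ L}) ^ q) (φ * ψ i * φ) (s i • φ)) →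
        ∃ (φ' : Matrix (Fin n) (Fin m) B) (ψ' : ι → Matrix (Fin m) (Fin n) B),
          (∀ i, φ' * ψ' i * φ' = s i • φ') ∧ EqMod (Ideal.span (s '' {j | j ∈ L}) ^ k) φ' φ ∧
          ∀ i, EqMod (Ideal.span (s '' {j | j ∈ L}) ^ k) (ψ' i) (ψ i) := by
  intro L
  induction L with
  | nil =>
    intro B _ f _ s b _ _ k
    refine ⟨k + 1, by omega, fun φ ψ h => ⟨φ, ψ, fun i => Matrix.ext fun x y => ?_, .refl _ _, fun i => .refl _ _⟩⟩
    have h0 : Ideal.span (s '' {j | j ∈ ([] : List ι)}) = ⊥ := by simp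
    have := h i x y
    rw [h0, ← Ideal.zero_eq_bot, zero_pow (by omega), Ideal.zero_eq_bot, Ideal.mem_bot, sub_eq_zero] at this
    exact this
  | cons a L ih =>
    intro B _ f hf s b hb hhens k
    haveI := hhens
    have hta : f (b a) = s a := hb a (List.mem_cons_self ..)
    haveI : HenselianRing B (Ideal.span {s a}) :=
      Hens22.henselianRing_of_le (J := Ideal.span (s '' {j | j ∈ a :: L})) ((span_cons s a L).ge.trans' le_sup_left)
    obtain ⟨c, hc⟩ := hf.bdd (b a)
    rw [hta] at hc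
    let r := k + c + 12
    let K₀ : Ideal B₀ := Ideal.span {b a ^ r}
    let K := K₀.map f
    have hK : K = Ideal.span {s a ^ r} := by
      show Ideal.map f _ = _
      rw [Ideal.map_span, Set.image_singleton, map_pow, hta]
    let π := Ideal.Quotient.mk K
    have hπs : HenselianRing (B ⧸ K) (Ideal.span ((fun j => π (s j)) '' {j | j ∈ L})) := by
      haveI := Hens22.henselianRing_quotient (Ideal.span (s '' {j | j ∈ a :: L})) K
      refine Hens22.henselianRing_of_le (J := (Ideal.span (s '' {j | j ∈ a :: L})).map π) ?_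
      rw [span_quotient]
      exact Ideal.map_mono ((span_cons s a L).ge.trans' le_sup_right)
    obtain ⟨q, hkq, hq⟩ := ih (B ⧸ K) (π.comp f) (hf.quotient K₀) (fun j => π (s j)) b
      (fun j hj => congrArg π (hb j (List.mem_cons_of_mem _ hj))) hπs k
    refine ⟨r + q, by omega, fun φ ψ h => ?_⟩
    obtain ⟨φb, ψb, hex, hφb, hψb⟩ := hq (φ.map π) (fun i => (ψ i).map π) fun i x y => by
      have h1 := Ideal.mem_map_of_mem π (le_sup_pow_add (s a) _ r q ((span_cons s a L) ▸ h i x y))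
      rw [Ideal.map_sup, ← hK, Ideal.map_quotient_self, bot_sup_eq, Ideal.map_pow, ← span_quotient, map_sub,
        Matrix.smul_apply, smul_eq_mul, map_mul] at h1
      rw [← Matrix.map_mul, ← Matrix.map_mul]
      exact h1
    obtain ⟨φz, rfl⟩ := exists_map_eq π Ideal.Quotient.mk_surjective φb
    choose ψz hψz using fun i => exists_map_eq π Ideal.Quotient.mk_surjective (ψb i)
    have hz : ∀ i, EqMod (Ideal.span {s a ^ r}) (φz * ψz i * φz) (s i • φz) := fun i => by
      rw [← hK, eqMod_iff_map, Matrix.map_mul, Matrix.map_mul, hψz, hex, map_smul_mat]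
    obtain ⟨E, hE⟩ := (hz a).exists_smul
    obtain ⟨D, D', hmain⟩ := exists_main hc φz E (ψz a) (M := r) (by omega) hE
    let φ₁ := φz + s a ^ (r - 5) • D
    have hφ₁ : EqMod (Ideal.span {s a ^ (r - 5)}) φ₁ φz := eqMod_add_smul _ _ _
    have hle : Ideal.span {s a ^ r} ≤ Ideal.span {s a ^ (r - 5)} :=
      Ideal.span_singleton_le_span_singleton.2 (pow_dvd_pow _ (by omega))
    have hψ₁ : ∀ i, ∃ ψ₁, φ₁ * ψ₁ * φ₁ = s i • φ₁ ∧ EqMod (Ideal.span {s a ^ (r - 8)}) ψ₁ (ψz i) := fun i => by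
      obtain ⟨E₂, hE₂⟩ := (((hφ₁.mul (.refl _ (ψz i))).mul hφ₁).trans
        (((hz i).mono hle).trans (hφ₁.symm.smul (s i)))).exists_smul
      obtain ⟨D₂, hD₂⟩ := exists_aux hc φ₁ E₂ _ (ψz i) (s i) hmain (M := r - 5) (by omega) hE₂
      exact ⟨_, hD₂, (show r - 5 - 3 = r - 8 by omega) ▸ eqMod_add_smul _ _ _⟩
    choose ψ₁ hex₁ hψ₁' using hψ₁
    refine ⟨φ₁, ψ₁, hex₁, ?_, fun i => ?_⟩
    all_goals
      have hsmall : ∀ e, k ≤ e → Ideal.span {s a ^ e} ≤ Ideal.span (s '' {j | j ∈ a :: L}) ^ k := fun e he => by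
        rw [← Ideal.span_singleton_pow]
        exact (Ideal.pow_le_pow_right he).trans (Ideal.pow_right_mono ((span_cons s a L).ge.trans' le_sup_left) k)
      have hup : ∀ {l p : ℕ} {X Y : Matrix (Fin l) (Fin p) B},
          EqMod (Ideal.span ((fun j => π (s j)) '' {j | j ∈ L}) ^ k) (X.map π) (Y.map π) →
          EqMod (Ideal.span (s '' {j | j ∈ a :: L}) ^ k) X Y := fun {l p X Y} hXY x y => by
        have h1 : π (X x y - Y x y) ∈ (Ideal.span (s '' {j | j ∈ L}) ^ k).map π := by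
          rw [Ideal.map_pow, ← span_quotient, map_sub]
          exact hXY x y
        rw [Ideal.mem_quotient_iff_mem_sup, hK] at h1
        exact sup_le (Ideal.pow_right_mono ((span_cons s a L).ge.trans' le_sup_right) k) (hsmall r (by omega)) h1
    · exact (hφ₁.mono (hsmall _ (by omega))).trans (hup hφb)
    · refine ((hψ₁' i).mono (hsmall _ (by omega))).trans (hup ?_)
      rw [hψz]
      exact hψb i

/-- A near homomorphism of cokernels is near a homomorphism. -/
theorem exists_hom_near {n' m' : ℕ} : ∀ (L : List ι) (B : Type u) [CommRing B] (f : B₀ →+* B), QBdd f →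
    ∀ (s : ι → B) (b : ι → B₀), (∀ j ∈ L, f (b j) = s j) → ∀ k : ℕ, ∃ q : ℕ, k ≤ q ∧
      ∀ (φ : Matrix (Fin n) (Fin m) B) (φ' : Matrix (Fin n') (Fin m') B),
        (∀ j ∈ L, ∃ ψ, φ * ψ * φ = s j • φ) → (∀ j ∈ L, ∃ ψ, φ' * ψ * φ' = s j • φ') →
        ∀ (g : Matrix (Fin n') (Fin n) B) (Y : Matrix (Fin m') (Fin m) B),
        EqMod (Ideal.span (s '' {j | j ∈ L}) ^ q) (g * φ) (φ' * Y) →
        ∃ (g' : Matrix (Fin n') (Fin n) B) (Y' : Matrix (Fin m') (Fin m) B),
          g' * φ = φ' * Y' ∧ EqMod (Ideal.span (s '' {j | j ∈ L}) ^ k) g' g := by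
  intro L
  induction L with
  | nil =>
    intro B _ f _ s b _ k
    refine ⟨k + 1, by omega, fun φ φ' _ _ g Y h => ⟨g, Y, Matrix.ext fun x y => ?_, .refl _ _⟩⟩
    have h0 : Ideal.span (s '' {j | j ∈ ([] : List ι)}) = ⊥ := by simp
    have := h x y
    rw [h0, ← Ideal.zero_eq_bot, zero_pow (by omega), Ideal.zero_eq_bot, Ideal.mem_bot, sub_eq_zero] at this
    exact this
  | cons a L ih =>
    intro B _ f hf s b hb k
    have hta : f (b a) = s a := hb a (List.mem_cons_self ..)
    obtain ⟨c, hc⟩ := hf.bdd (b a)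
    rw [hta] at hc
    let r := k + c + 3
    let K₀ : Ideal B₀ := Ideal.span {b a ^ r}
    let K := K₀.map f
    have hK : K = Ideal.span {s a ^ r} := by
      show Ideal.map f _ = _
      rw [Ideal.map_span, Set.image_singleton, map_pow, hta]
    let π := Ideal.Quotient.mk K
    obtain ⟨q, hkq, hq⟩ := ih (B ⧸ K) (π.comp f) (hf.quotient K₀) (fun j => π (s j)) b
      (fun j hj => congrArg π (hb j (List.mem_cons_of_mem _ hj))) k
    refine ⟨r + q, by omega, fun φ φ' hφ hφ' g Y h => ?_⟩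
    obtain ⟨gb, Yb, hex, hgb⟩ := hq (φ.map π) (φ'.map π)
      (fun j hj => by
        obtain ⟨ψ, hψ⟩ := hφ j (List.mem_cons_of_mem _ hj)
        exact ⟨ψ.map π, by rw [← Matrix.map_mul, ← Matrix.map_mul, hψ, map_smul_mat]⟩)
      (fun j hj => by
        obtain ⟨ψ, hψ⟩ := hφ' j (List.mem_cons_of_mem _ hj)
        exact ⟨ψ.map π, by rw [← Matrix.map_mul, ← Matrix.map_mul, hψ, map_smul_mat]⟩)
      (g.map π) (Y.map π) fun x y => by
        have h1 := Ideal.mem_map_of_mem π (le_sup_pow_add (s a) _ r q ((span_cons s a L) ▸ h x y))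
        rw [Ideal.map_sup, ← hK, Ideal.map_quotient_self, bot_sup_eq, Ideal.map_pow, ← span_quotient, map_sub] at h1
        rw [← Matrix.map_mul, ← Matrix.map_mul]
        exact h1
    obtain ⟨gz, rfl⟩ := exists_map_eq π Ideal.Quotient.mk_surjective gb
    obtain ⟨Yz, rfl⟩ := exists_map_eq π Ideal.Quotient.mk_surjective Yb
    rw [← Matrix.map_mul, ← Matrix.map_mul, ← eqMod_iff_map, hK] at hex
    obtain ⟨Z, hZ⟩ := hex.exists_smul
    obtain ⟨ψa, hψa⟩ := hφ a (List.mem_cons_self ..)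
    obtain ⟨ψa', hψa'⟩ := hφ' a (List.mem_cons_self ..)
    obtain ⟨D, Y', hD⟩ := exists_hom hc φ ψa hψa φ' ψa' hψa' gz Yz Z (M := r) (by omega) hZ
    refine ⟨_, Y', hD, ?_⟩
    have hsmall : ∀ e, k ≤ e → Ideal.span {s a ^ e} ≤ Ideal.span (s '' {j | j ∈ a :: L}) ^ k := fun e he => by
      rw [← Ideal.span_singleton_pow]
      exact (Ideal.pow_le_pow_right he).trans (Ideal.pow_right_mono ((span_cons s a L).ge.trans' le_sup_left) k)
    refine ((eqMod_add_smul _ _ _).mono (hsmall _ (by omega))).trans fun x y => ?_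
    have h1 : π (gz x y - g x y) ∈ (Ideal.span (s '' {j | j ∈ L}) ^ k).map π := by
      rw [Ideal.map_pow, ← span_quotient, map_sub]
      exact hgb x y
    rw [Ideal.mem_quotient_iff_mem_sup, hK] at h1
    exact sup_le (Ideal.pow_right_mono ((span_cons s a L).ge.trans' le_sup_right) k) (hsmall r (by omega)) h1

end Groth.Agent.ParaF26.Elkik
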