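import Groth.Agent.ParaF26.Elkik.Modules
import Groth.Agent.CAlg5.AdicFS

/-!
Descent of modules which are locally free off `V(J)` from the completion of a henselian pair.
-/

set_option autoImplicit false
set_option linter.style.haveILetI false

universe u

open Matrix TensorProduct

namespace Groth.Agent.ParaF26.Elkik

/-- A finite module over the completion, locally free off `V(J)`, comes from the henselian ring. -/
theorem exists_descent_split {B₀ B : Type u} [CommRing B₀] [CommRing B] [IsNoetherianRing B₀] [Algebra B₀ B]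
    [Module.Flat B₀ B] (I₀ : Ideal B₀) (I : Ideal B) (hI : I = I₀.map (algebraMap B₀ B)) [HenselianRing B I]
    [IsNoetherianRing (AdicCompletion I B)] (J : Ideal B) (hJ : I ≤ J)
    (Mbar : Type u) [AddCommGroup Mbar] [Module (AdicCompletion I B) Mbar] [Module.Finite (AdicCompletion I B) Mbar]
    (hMbar : ∀ (p : Ideal (AdicCompletion I B)) [p.IsPrime],
      ¬ J.map (algebraMap B (AdicCompletion I B)) ≤ p →
        Module.Free (Localization.AtPrime p) (LocalizedModule p.primeCompl Mbar)) :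
    ∃ (n m a b : ℕ) (φ : Matrix (Fin n) (Fin m) B) (s : Fin a ⊕ Fin b → B)
      (ψ : Fin a ⊕ Fin b → Matrix (Fin m) (Fin n) B),
      (∀ i, φ * ψ i * φ = s i • φ) ∧ (∀ i, s i ∈ J) ∧ (∀ k, s (Sum.inl k) ∈ I) ∧
      I ≤ (Ideal.span (Set.range fun k => s (Sum.inl k))).radical ∧
      (∀ (q : Ideal B) [q.IsPrime], ¬ J ≤ q → ∃ i, s i ∉ q) ∧
      Nonempty (AdicCompletion I B ⊗[B] Coker φ ≃ₗ[AdicCompletion I B] Mbar) := by
  classical
  let Bh := AdicCompletion I B
  let ρ := algebraMap B Bh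
  have hIFG : I.FG := hI ▸ Ideal.FG.map (IsNoetherian.noetherian I₀) _
  haveI : IsAdicComplete (I.map ρ) Bh :=
    (IsAdicComplete.map_algebraMap_iff _ _).mpr (AdicCompletion.isAdicComplete hIFG)
  have hjac : I.map ρ ≤ (⊥ : Ideal Bh).jacobson := IsAdicComplete.le_jacobson_bot _
  -- a presentation of the module on the completion
  obtain ⟨n, π, hπ⟩ := Module.Finite.exists_fin' Bh Mbar
  obtain ⟨m, cols, hcols⟩ := Submodule.fg_iff_exists_fin_generating_family.1 (IsNoetherian.noetherian (LinearMap.ker π))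
  let φb : Matrix (Fin n) (Fin m) Bh := Matrix.of fun i j => cols j i
  have hker : LinearMap.range φb.mulVecLin = LinearMap.ker π := by
    rw [Matrix.range_mulVecLin, ← hcols]
    rfl
  let e : Coker φb ≃ₗ[Bh] Mbar :=
    (Submodule.quotEquivOfEq _ _ hker).trans (LinearMap.quotKerEquivOfSurjective π hπ)
  have hfree : ∀ (p : Ideal Bh) [p.IsPrime], ¬ J.map ρ ≤ p →
      Module.Free (Localization.AtPrime p) (LocalizedModule p.primeCompl (Coker φb)) := fun p _ hp => by
    haveI := hMbar p hp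
    exact Module.Free.of_equiv (IsLocalizedModule.mapEquiv p.primeCompl (LocalizedModule.mkLinearMap p.primeCompl Mbar)
      (LocalizedModule.mkLinearMap p.primeCompl (Coker φb)) (Localization.AtPrime p) e.symm)
  -- the indices
  obtain ⟨a, g, hg⟩ := Submodule.fg_iff_exists_fin_generating_family.1 (IsNoetherian.noetherian I₀)
  have hgI : ∀ i, g i ∈ I₀ := fun i => hg ▸ Submodule.subset_span ⟨i, rfl⟩
  obtain ⟨T, hTJ, hT⟩ := Submodule.fg_span_iff_fg_span_finset_subset (ρ '' (J : Set B)) |>.1 (IsNoetherian.noetherian (Ideal.span (ρ '' (J : Set B))))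
  choose w hwJ hw using fun z : T => hTJ z.2
  let eT := T.equivFin
  let u : Fin a ⊕ Fin T.card → B := Sum.elim (fun i => algebraMap B₀ B (g i)) (fun i => w (eT.symm i))
  have huJ : ∀ i, u i ∈ J := fun i => by
    rcases i with i | i
    · exact hJ (hI ▸ Ideal.mem_map_of_mem _ (hgI i))
    · exact hwJ _
  choose N hN ψb hψb using fun i => exists_split_pow φb (J.map ρ) hfree (Ideal.mem_map_of_mem ρ (huJ i))
  let s : Fin a ⊕ Fin T.card → B := fun i => u i ^ N i
  let b : Fin a ⊕ Fin T.card → B₀ := fun i => Sum.elim (fun k => g k ^ N (Sum.inl k)) (fun _ => 0) i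
  let L : List (Fin a ⊕ Fin T.card) := (List.finRange a).map Sum.inl
  have hL : ∀ j, j ∈ L ↔ ∃ k, Sum.inl k = j := by simp [L]
  have hb : ∀ j ∈ L, algebraMap B₀ B (b j) = s j := fun j hj => by
    obtain ⟨k, rfl⟩ := (hL j).1 hj
    simp [s, b, u, map_pow]
  let IL := Ideal.span (s '' {j | j ∈ L})
  have hILI : IL ≤ I := Ideal.span_le.2 (by
    rintro _ ⟨j, hj, rfl⟩
    obtain ⟨k, rfl⟩ := (hL j).1 hj
    exact Ideal.pow_mem_of_mem I (hI ▸ Ideal.mem_map_of_mem _ (hgI k)) _ (hN _))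
  haveI : HenselianRing B IL := Hens22.henselianRing_of_le hILI
  have hrad : I ≤ IL.radical := by
    rw [hI, ← hg, Ideal.submodule_span_eq, Ideal.map_span, Ideal.span_le]
    rintro _ ⟨_, ⟨k, rfl⟩, rfl⟩
    exact ⟨N (Sum.inl k), Ideal.subset_span ⟨Sum.inl k, (hL _).2 ⟨k, rfl⟩, rfl⟩⟩
  obtain ⟨Q, hQ⟩ := Ideal.exists_pow_le_of_le_radical_of_fg hrad hIFG
  -- the bounds
  let sb : Fin a ⊕ Fin T.card → Bh := fun i => ρ (s i)
  have hILb : Ideal.span (sb '' {j | j ∈ L}) = IL.map ρ := by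
    rw [Ideal.map_span, Set.image_image]
  obtain ⟨q₁, -, hq₁⟩ := exists_hom_near (n := n) (m := m) (n' := n) (m' := m) L Bh (RingHom.id Bh)
    (qbdd_of_flat (B₀ := Bh) (B := Bh)) sb sb (fun _ _ => rfl) 1
  obtain ⟨q, hq1q, hq⟩ := exists_solution (n := n) (m := m) L B (algebraMap B₀ B) qbdd_of_flat s b hb inferInstance q₁
  -- approximate
  have happ : ∀ x : Bh, ∃ y : B, ρ y - x ∈ I.map ρ ^ (Q * q) := fun x => by
    obtain ⟨y, hy⟩ := CAlg5.exists_sub_mem_pow I hIFG (Q * q) x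
    exact ⟨y, by rw [← neg_sub]; exact neg_mem hy⟩
  choose lft hlft using happ
  have hlM : ∀ {l p : ℕ} (X : Matrix (Fin l) (Fin p) Bh),
      EqMod (I.map ρ ^ (Q * q)) ((X.map lft).map ρ) X := fun X i j => hlft _
  obtain ⟨φ, ψ, hex, hφ, hψ⟩ := hq (φb.map lft) (fun i => (ψb i).map lft) fun i x y => by
    refine (pow_mul I Q q).le.trans (Ideal.pow_right_mono hQ q) (CAlg5.mem_pow_of_algebraMap_mem I hIFG _ _ ?_)
    have h1 := (((hlM φb).mul (hlM (ψb i))).mul (hlM φb)).trans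
      ((show φb * ψb i * φb = ρ (s i) • φb by rw [map_pow]; exact hψb i) ▸ ((hlM φb).symm.smul (ρ (s i))))
    have h2 := h1 x y
    rw [← Matrix.map_mul, ← Matrix.map_mul, ← map_smul_mat, Matrix.map_apply, Matrix.map_apply, ← map_sub] at h2
    exact h2
  refine ⟨n, m, a, T.card, φ, s, ψ, hex, fun i => Ideal.pow_mem_of_mem J (huJ i) _ (hN i),
    fun k => hILI (Ideal.subset_span ⟨_, (hL _).2 ⟨k, rfl⟩, rfl⟩), ?_, fun p _ hp => ?_, ?_⟩
  · refine hrad.trans (Ideal.radical_mono (Ideal.span_mono ?_))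
    rintro _ ⟨j, hj, rfl⟩
    obtain ⟨k, rfl⟩ := (hL j).1 hj
    exact ⟨k, rfl⟩
  · by_cases h : ∃ i, s i ∉ p
    · exact h
    push Not at h
    refine absurd (fun x hx => ?_) hp
    have hu : ∀ i, u i ∈ p := fun i => ‹p.IsPrime›.mem_of_pow_mem _ (h i)
    have hIp : I ≤ p := by
      rw [hI, ← hg, Ideal.submodule_span_eq, Ideal.map_span, Ideal.span_le]
      rintro _ ⟨_, ⟨k, rfl⟩, rfl⟩
      exact hu (Sum.inl k)
    have h1 : ρ x ∈ p.map ρ := by
      have h2 : ρ x ∈ Ideal.span (T : Set Bh) := by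
        rw [show Ideal.span (T : Set Bh) = Ideal.span (ρ '' (J : Set B)) from hT.symm]
        exact Ideal.subset_span ⟨x, hx, rfl⟩
      refine (Ideal.span_le.2 fun z hz => ?_) h2
      rw [SetLike.mem_coe, show z = ρ (w ⟨z, hz⟩) from (hw ⟨z, hz⟩).symm]
      have h4 : w (eT.symm (eT ⟨z, hz⟩)) ∈ p := hu (Sum.inr (eT ⟨z, hz⟩))
      rw [eT.symm_apply_apply] at h4
      exact Ideal.mem_map_of_mem ρ h4
    have h3 : AdicCompletion.evalₐ I 1 (ρ x) ∈ p.map (Ideal.Quotient.mk (I ^ 1)) := by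
      have h := Ideal.mem_map_of_mem (AdicCompletion.evalₐ I 1).toRingHom h1
      rw [Ideal.map_map, show (AdicCompletion.evalₐ I 1).toRingHom.comp ρ = Ideal.Quotient.mk (I ^ 1) from
        RingHom.ext fun y => (AdicCompletion.evalₐ I 1).commutes y] at h
      exact h
    rw [AlgHom.commutes, Ideal.Quotient.algebraMap_eq, Ideal.mem_quotient_iff_mem_sup, pow_one,
      sup_eq_left.2 hIp] at h3
    exact h3
  · -- compare on the completion
    let φc := φ.map ρ
    have hsplit : ∀ j ∈ L, ∃ ψ' : Matrix (Fin m) (Fin n) Bh, φc * ψ' * φc = sb j • φc := fun j _ => ⟨(ψ j).map ρ, by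
      rw [← Matrix.map_mul, ← Matrix.map_mul, hex, map_smul_mat]⟩
    have hsplitb : ∀ j ∈ L, ∃ ψ' : Matrix (Fin m) (Fin n) Bh, φb * ψ' * φb = sb j • φb := fun j _ => ⟨ψb j, by
      rw [hψb]; simp [sb, s, map_pow]⟩
    have hclose : EqMod (Ideal.span (sb '' {j | j ∈ L}) ^ q₁) φc φb := by
      rw [hILb, ← Ideal.map_pow]
      refine EqMod.trans (fun i j => ?_) (EqMod.mono ?_ (hlM φb))
      · show ρ (φ i j) - ρ (lft (φb i j)) ∈ _
        rw [← map_sub]
        exact Ideal.mem_map_of_mem _ (hφ i j)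
      · rw [← Ideal.map_pow]
        refine Ideal.map_mono ((pow_mul I Q q).le.trans ((Ideal.pow_right_mono hQ q).trans ?_))
        exact Ideal.pow_le_pow_right hq1q
    obtain ⟨g₁, Y₁, h₁, hg₁⟩ := hq₁ φc φb hsplit hsplitb 1 1 (by rw [Matrix.one_mul, Matrix.mul_one]; exact hclose)
    obtain ⟨g₂, Y₂, h₂, hg₂⟩ := hq₁ φb φc hsplitb hsplit 1 1 (by rw [Matrix.one_mul, Matrix.mul_one]; exact hclose.symm)
    rw [pow_one, hILb] at hg₁ hg₂
    obtain ⟨e'⟩ := nonempty_equiv_of_near (IL.map ρ) ((Ideal.map_mono hILI).trans hjac) φc φb g₁ g₂ Y₁ Y₂ h₁ h₂ hg₁ hg₂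
    exact ⟨(cokerBaseChange φ).trans (e'.trans e)⟩

/-- A finite module over the completion, locally free off `V(J)`, comes from the henselian ring. -/
theorem exists_descent {B₀ B : Type u} [CommRing B₀] [CommRing B] [IsNoetherianRing B₀] [Algebra B₀ B]
    [Module.Flat B₀ B] (I₀ : Ideal B₀) (I : Ideal B) (hI : I = I₀.map (algebraMap B₀ B)) [HenselianRing B I]
    [IsNoetherianRing (AdicCompletion I B)] (J : Ideal B) (hJ : I ≤ J)
    (Mbar : Type u) [AddCommGroup Mbar] [Module (AdicCompletion I B) Mbar] [Module.Finite (AdicCompletion I B) Mbar]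
    (hMbar : ∀ (p : Ideal (AdicCompletion I B)) [p.IsPrime],
      ¬ J.map (algebraMap B (AdicCompletion I B)) ≤ p →
        Module.Free (Localization.AtPrime p) (LocalizedModule p.primeCompl Mbar)) :
    ∃ (n m : ℕ) (φ : Matrix (Fin n) (Fin m) B),
      (∀ (q : Ideal B) [q.IsPrime], ¬ J ≤ q →
        Module.Free (Localization.AtPrime q) (LocalizedModule q.primeCompl (Coker φ))) ∧
      Nonempty (AdicCompletion I B ⊗[B] Coker φ ≃ₗ[AdicCompletion I B] Mbar) := by
  obtain ⟨n, m, a, b, φ, s, ψ, hex, -, -, -, hcov, he⟩ := exists_descent_split I₀ I hI J hJ Mbar hMbar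
  refine ⟨n, m, φ, fun q _ hq => ?_, he⟩
  obtain ⟨i, hi⟩ := hcov q hq
  exact free_of_split φ (ψ i) (s i) (hex i) q hi

end Groth.Agent.ParaF26.Elkik
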