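import Groth.Agent.ParaF26.Elkik.Approx
import Mathlib.Algebra.Module.FinitePresentation
import Mathlib.Algebra.Module.LocalizedModule.Submodule
import Mathlib.RingTheory.LocalRing.Module
import Mathlib.RingTheory.Flat.Basic
import Mathlib.RingTheory.LocalProperties.Projective

/-!
Modules with a presentation `φ` such that `φ ψ φ = s φ`.
-/

set_option autoImplicit false
set_option linter.style.haveILetI false

universe u

open Matrix TensorProduct

namespace Groth.Agent.ParaF26.Elkik

variable {B : Type u} [CommRing B] {n m : ℕ}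

/-- The cokernel of a matrix. -/
abbrev Coker (φ : Matrix (Fin n) (Fin m) B) : Type u := (Fin n → B) ⧸ LinearMap.range φ.mulVecLin

/-- The cokernel is free at primes not containing `s`. -/
theorem free_of_split (φ : Matrix (Fin n) (Fin m) B) (ψ : Matrix (Fin m) (Fin n) B) (s : B)
    (h : φ * ψ * φ = s • φ) (q : Ideal B) [q.IsPrime] (hs : s ∉ q) :
    Module.Free (Localization.AtPrime q) (LocalizedModule q.primeCompl (Coker φ)) := by
  classical
  let π : (Fin n → B) →ₗ[B] Coker φ := Submodule.mkQ _
  let u : Coker φ →ₗ[B] (Fin n → B) := (LinearMap.range φ.mulVecLin).liftQ (s • LinearMap.id - (φ * ψ).mulVecLin) (by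
    rintro _ ⟨y, rfl⟩
    rw [LinearMap.mem_ker, LinearMap.sub_apply, LinearMap.smul_apply, LinearMap.id_apply, Matrix.mulVecLin_apply,
      Matrix.mulVecLin_apply, Matrix.mulVec_mulVec, h, Matrix.smul_mulVec, sub_self])
  have hu : π ∘ₗ u = s • LinearMap.id := by
    refine Submodule.linearMap_qext _ (LinearMap.ext fun x => ?_)
    show π (s • x - (φ * ψ).mulVec x) = s • π x
    rw [map_sub, map_smul, sub_eq_self, ← Matrix.mulVec_mulVec]
    exact (Submodule.Quotient.mk_eq_zero _).2 ⟨ψ.mulVec x, rfl⟩
  let S := q.primeCompl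
  let Rq := Localization.AtPrime q
  haveI : Module.FinitePresentation B (Coker φ) :=
    Module.finitePresentation_of_surjective π (Submodule.mkQ_surjective _)
      (by rw [Submodule.ker_mkQ, LinearMap.range_eq_map]; exact Submodule.FG.map _ Module.Finite.fg_top)
  let Fq := LocalizedModule S (Fin n → B)
  let Mq := LocalizedModule S (Coker φ)
  let L1 := (LinearMap.extendScalarsOfIsLocalization S Rq
    (IsLocalizedModule.map S (LocalizedModule.mkLinearMap S (Fin n → B)) (LocalizedModule.mkLinearMap S (Coker φ)) π))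
  let L2 := (LinearMap.extendScalarsOfIsLocalization S Rq
    (IsLocalizedModule.map S (LocalizedModule.mkLinearMap S (Coker φ)) (LocalizedModule.mkLinearMap S (Fin n → B)) u))
  obtain ⟨v, hv⟩ := (IsLocalization.map_units Rq (⟨s, hs⟩ : S)).exists_right_inv
  have hL : L1 ∘ₗ (v • L2) = LinearMap.id := by
    refine LinearMap.restrictScalars_injective B (IsLocalizedModule.ext S (LocalizedModule.mkLinearMap S (Coker φ))
      (IsLocalizedModule.map_units (LocalizedModule.mkLinearMap S (Coker φ))) (LinearMap.ext fun x => ?_))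
    show L1 (v • L2 (LocalizedModule.mkLinearMap S (Coker φ) x)) = LocalizedModule.mkLinearMap S (Coker φ) x
    rw [map_smul]
    simp only [L1, L2, LinearMap.extendScalarsOfIsLocalization_apply', IsLocalizedModule.map_apply]
    rw [show π (u x) = s • x from LinearMap.congr_fun hu x, map_smul, ← algebraMap_smul Rq s, smul_smul, mul_comm, hv,
      one_smul]
  haveI : Module.Finite Rq Mq := Module.Finite.of_isLocalizedModule S (LocalizedModule.mkLinearMap S (Coker φ))
  haveI : Module.Projective Rq Fq :=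
    Module.projective_of_isLocalizedModule S (LocalizedModule.mkLinearMap S (Fin n → B))
  haveI : Module.Projective Rq Mq := Module.Projective.of_split (v • L2) L1 hL
  exact Module.free_of_flat_of_isLocalRing

/-- The ring-change of a cokernel is the cokernel of the changed matrix. -/
noncomputable def cokerBaseChange {C : Type u} [CommRing C] [Algebra B C] (φ : Matrix (Fin n) (Fin m) B) :
    C ⊗[B] Coker φ ≃ₗ[C] Coker (φ.map (algebraMap B C)) := by
  classical
  let φ' := φ.map (algebraMap B C)
  let ι : (Fin n → B) →ₗ[B] Coker φ' :=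
    (Submodule.mkQ _).restrictScalars B ∘ₗ LinearMap.compLeft (Algebra.linearMap B C) (Fin n)
  have hι : LinearMap.range φ.mulVecLin ≤ LinearMap.ker ι := by
    rintro _ ⟨y, rfl⟩
    refine (Submodule.Quotient.mk_eq_zero _).2 ⟨fun j => algebraMap B C (y j), ?_⟩
    funext i
    exact (RingHom.map_mulVec (algebraMap B C) φ y i).symm
  let F : C ⊗[B] Coker φ →ₗ[C] Coker φ' := LinearMap.liftBaseChange C ((LinearMap.range φ.mulVecLin).liftQ ι hι)
  let G0 : (Fin n → C) →ₗ[C] C ⊗[B] Coker φ :=
    Fintype.linearCombination C fun i => (1 : C) ⊗ₜ[B] Submodule.Quotient.mk (Pi.single i 1)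
  have hG0 : ∀ y : Fin n → B, G0 (fun i => algebraMap B C (y i)) = (1 : C) ⊗ₜ[B] Submodule.Quotient.mk y := fun y => by
    rw [Fintype.linearCombination_apply]
    simp only [algebraMap_smul, ← TensorProduct.tmul_smul, ← TensorProduct.tmul_sum, ← Submodule.Quotient.mk_smul]
    congr 1
    simp only [← Submodule.mkQ_apply]
    rw [← map_sum (Submodule.mkQ (LinearMap.range φ.mulVecLin))]
    congr 1
    exact (pi_eq_sum_univ' y).symm
  have hG : LinearMap.range φ'.mulVecLin ≤ LinearMap.ker G0 := by
    rw [Matrix.range_mulVecLin, Submodule.span_le]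
    rintro _ ⟨j, rfl⟩
    show G0 (fun i => algebraMap B C (φ i j)) = 0
    rw [hG0, show (Submodule.Quotient.mk (fun i => φ i j) : Coker φ) = 0 from
      (Submodule.Quotient.mk_eq_zero _).2 ⟨Pi.single j 1, by simp [Matrix.col_def]; rfl⟩, TensorProduct.tmul_zero]
  let G : Coker φ' →ₗ[C] C ⊗[B] Coker φ := (LinearMap.range φ'.mulVecLin).liftQ G0 hG
  refine LinearEquiv.ofLinearMap F G ?_ ?_
  · refine Submodule.linearMap_qext _ (LinearMap.ext fun y => ?_)
    show F (G0 y) = Submodule.Quotient.mk y
    rw [Fintype.linearCombination_apply, map_sum]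
    conv_rhs => rw [pi_eq_sum_univ' y]
    rw [← Submodule.mkQ_apply, map_sum]
    refine Finset.sum_congr rfl fun i _ => ?_
    rw [map_smul, map_smul, LinearMap.liftBaseChange_tmul, one_smul]
    show y i • ι (Pi.single i 1) = _
    refine congrArg (y i • ·) (congrArg Submodule.Quotient.mk (funext fun j => ?_))
    by_cases hj : j = i <;> simp [Pi.single_apply, hj, LinearMap.compLeft]
  · refine TensorProduct.AlgebraTensorModule.ext fun c x => ?_
    obtain ⟨x, rfl⟩ := Submodule.Quotient.mk_surjective _ x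
    show G (F (c ⊗ₜ[B] Submodule.Quotient.mk x)) = _
    rw [LinearMap.liftBaseChange_tmul, map_smul]
    show c • G0 (fun i => algebraMap B C (x i)) = _
    rw [hG0, TensorProduct.smul_tmul', smul_eq_mul, mul_one]
    rfl

/-- Close presentations give isomorphic cokernels. -/
theorem nonempty_equiv_of_near (I : Ideal B) (hI : I ≤ Ideal.jacobson ⊥) (φ φ' : Matrix (Fin n) (Fin m) B)
    (g g' : Matrix (Fin n) (Fin n) B) (Y Y' : Matrix (Fin m) (Fin m) B) (h : g * φ = φ' * Y)
    (h' : g' * φ' = φ * Y') (hg : EqMod I g 1) (hg' : EqMod I g' 1) : Nonempty (Coker φ ≃ₗ[B] Coker φ') := by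
  classical
  let toMap : ∀ (a b : Matrix (Fin n) (Fin m) B) (x : Matrix (Fin n) (Fin n) B) (W : Matrix (Fin m) (Fin m) B),
      x * a = b * W → (Coker a →ₗ[B] Coker b) := fun a b x W e =>
    Submodule.mapQ _ _ x.mulVecLin (by
      rintro _ ⟨y, rfl⟩
      refine ⟨W.mulVec y, ?_⟩
      simp only [Matrix.mulVecLin_apply, Matrix.mulVec_mulVec, e])
  let f := toMap φ φ' g Y h
  let f' := toMap φ' φ g' Y' h'
  have key : ∀ (a b : Matrix (Fin n) (Fin m) B) (x x' : Matrix (Fin n) (Fin n) B)
      (W W' : Matrix (Fin m) (Fin m) B) (e : x * a = b * W) (e' : x' * b = a * W'),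
      EqMod I x 1 → EqMod I x' 1 → Function.Bijective (toMap b a x' W' e' ∘ₗ toMap a b x W e) := by
    intro a b x x' W W' e e' hx hx'
    refine OrzechProperty.bijective_of_surjective_endomorphism _ fun z => ?_
    obtain ⟨z, rfl⟩ := Submodule.Quotient.mk_surjective _ z
    have hu : IsUnit (x' * x) := by
      rw [Matrix.isUnit_iff_isUnit_det]
      refine Hens22.isUnit_of_map_isUnit hI ?_
      rw [RingHom.map_det]
      convert isUnit_one
      rw [map_mul, show (Ideal.Quotient.mk I).mapMatrix x = 1 from ?_,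
        show (Ideal.Quotient.mk I).mapMatrix x' = 1 from ?_, one_mul, Matrix.det_one]
      · exact (eqMod_iff_map.1 hx').trans (map_one (Ideal.Quotient.mk I).mapMatrix)
      · exact (eqMod_iff_map.1 hx).trans (map_one (Ideal.Quotient.mk I).mapMatrix)
    obtain ⟨U, hU⟩ := hu.exists_right_inv
    refine ⟨Submodule.Quotient.mk (U.mulVec z), ?_⟩
    show Submodule.Quotient.mk (x'.mulVec (x.mulVec (U.mulVec z))) = _
    rw [Matrix.mulVec_mulVec, Matrix.mulVec_mulVec, hU, Matrix.one_mulVec]
  have h1 := key φ φ' g g' Y Y' h h' hg hg'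
  have h2 := key φ' φ g' g Y' Y h' h hg' hg
  exact ⟨LinearEquiv.ofBijective f ⟨Function.Injective.of_comp (f := f') h1.1,
    Function.Surjective.of_comp (g := f') h2.2⟩⟩

/-- Over a Noetherian ring: `φ ψ φ = s ^ N φ` for `s` in every prime off the locally free locus. -/
theorem exists_split_pow {R : Type u} [CommRing R] [IsNoetherianRing R] {a b : ℕ} (φ : Matrix (Fin a) (Fin b) R)
    (J : Ideal R) (hfree : ∀ (p : Ideal R) [p.IsPrime], ¬ J ≤ p →
      Module.Free (Localization.AtPrime p) (LocalizedModule p.primeCompl (Coker φ)))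
    {x : R} (hx : x ∈ J) : ∃ N : ℕ, 1 ≤ N ∧ ∃ ψ, φ * ψ * φ = x ^ N • φ := by
  classical
  let M := Coker φ
  let π : (Fin a → R) →ₗ[R] M := Submodule.mkQ _
  let A : Ideal R := Submodule.comap (LinearMap.toSpanSingleton R (M →ₗ[R] M) LinearMap.id)
    (LinearMap.range (π.compRight R))
  have hA : ∀ r, r ∈ A ↔ ∃ u : M →ₗ[R] (Fin a → R), π ∘ₗ u = r • LinearMap.id := fun r => Iff.rfl
  have hrad : x ∈ A.radical := by
    rw [Ideal.radical_eq_sInf, Submodule.mem_sInf]
    rintro p ⟨hAp, hp⟩
    by_contra hxp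
    haveI := hp
    haveI := hfree p fun hJ => hxp (hJ hx)
    let S := Ideal.primeCompl p
    haveI : Module.FinitePresentation R M := Module.finitePresentation_of_finite R M
    let g := LocalizedModule.mkLinearMap S (Fin a → R)
    let gM := LocalizedModule.mkLinearMap S M
    let L := LinearMap.extendScalarsOfIsLocalization S (Localization.AtPrime p) (IsLocalizedModule.map S g gM π)
    have hLs : Function.Surjective L := IsLocalizedModule.map_surjective S g gM π (Submodule.mkQ_surjective _)
    obtain ⟨σ, hσ⟩ := Module.projective_lifting_property L LinearMap.id hLs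
    obtain ⟨l, s, hl⟩ := Module.FinitePresentation.exists_lift_of_isLocalizedModule S g (σ.restrictScalars R ∘ₗ gM)
    have h1 : ∀ y, gM (π (l y)) = gM ((s : R) • y) := fun y => by
      rw [map_smul, ← IsLocalizedModule.map_apply S g gM π (l y)]
      show IsLocalizedModule.map S g gM π ((g ∘ₗ l) y) = _
      rw [hl]
      show IsLocalizedModule.map S g gM π ((s : R) • σ (gM y)) = _
      rw [map_smul]
      exact congrArg ((s : R) • ·) (LinearMap.congr_fun hσ (gM y))
    obtain ⟨T, hT⟩ := (inferInstance : Module.Finite R M).fg_top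
    choose c hc using fun y => IsLocalizedModule.exists_of_eq (S := S) (h1 y)
    refine ((Ideal.primeCompl p).mul_mem (∏ y ∈ T, c y).2 s.2) (hAp ((hA _).2 ⟨((∏ y ∈ T, c y : S) : R) • l, ?_⟩))
    refine LinearMap.ext_on (s := (T : Set M)) hT fun y hy => ?_
    show π (((∏ y ∈ T, c y : S) : R) • l y) = (((∏ y ∈ T, c y : S) : R) * (s : R)) • y
    obtain ⟨d, hd⟩ := Finset.dvd_prod_of_mem c hy
    rw [map_smul, hd, Submonoid.coe_mul, mul_comm (c y : R), mul_smul, mul_assoc, mul_smul, mul_smul]
    exact congrArg ((d : R) • ·) (hc y)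
  obtain ⟨N, hN⟩ := hrad
  refine ⟨N + 1, by omega, ?_⟩
  obtain ⟨u, hu⟩ := (hA _).1 (show x ^ (N + 1) ∈ A from pow_succ x N ▸ A.mul_mem_right x hN)
  have h2 : ∀ i, ∃ y, φ.mulVecLin y = x ^ (N + 1) • Pi.single i 1 - u (π (Pi.single i 1)) := fun i => by
    rw [← LinearMap.mem_range, ← Submodule.Quotient.mk_eq_zero, ← Submodule.mkQ_apply, map_sub, map_smul, sub_eq_zero]
    exact (LinearMap.congr_fun hu (π (Pi.single i 1))).symm
  choose y hy using h2
  refine ⟨Matrix.of fun j i => y i j, ?_⟩
  refine Matrix.toLin'.injective ?_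
  have h3 : Matrix.toLin' (φ * Matrix.of fun j i => y i j) = x ^ (N + 1) • LinearMap.id - u ∘ₗ π := by
    refine LinearMap.pi_ext' fun i => LinearMap.ext_ring ?_
    show (φ * Matrix.of fun j i => y i j).mulVec (Pi.single i 1) = _
    rw [← Matrix.mulVec_mulVec, Matrix.mulVec_single_one]
    exact hy i
  rw [Matrix.toLin'_mul, h3, map_smul]
  refine LinearMap.ext fun v => ?_
  show x ^ (N + 1) • φ.mulVec v - u (π (φ.mulVec v)) = x ^ (N + 1) • φ.mulVec v
  rw [show π (φ.mulVec v) = 0 from (Submodule.Quotient.mk_eq_zero _).2 ⟨v, rfl⟩, map_zero, sub_zero]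

end Groth.Agent.ParaF26.Elkik
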