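import Groth.Agent.ParaF26.Elkik.RankOne
import Groth.Agent.ParaF26.Spread
import Groth.Prelude.Def_Formal2

/-!
Line bundles on the complement of `V(J)` descend from the completion of a henselian pair.
-/

set_option autoImplicit false
set_option linter.style.haveILetI false
set_option backward.isDefEq.respectTransparency.types false

universe u

open CategoryTheory AlgebraicGeometry Matrix TensorProduct

noncomputable section

namespace Groth.Agent.ParaF26.Elkik

variable {R : Type u} [CommRing R]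

theorem bijAway_of_equiv {M N : Type u} [AddCommGroup M] [Module R M] [AddCommGroup N] [Module R N] (e : M ≃ₗ[R] N)
    {t : M} {g : R} (h : BijAway (LinearMap.toSpanSingleton R M t) g) :
    BijAway (LinearMap.toSpanSingleton R N (e t)) g := by
  refine ⟨fun a ha => h.inj a (e.injective ?_), fun y => ?_⟩
  · rw [map_zero, LinearMap.toSpanSingleton_apply, map_smul]
    exact ha
  · obtain ⟨k, a, hka⟩ := h.surj (e.symm y)
    refine ⟨k, a, ?_⟩
    rw [LinearMap.toSpanSingleton_apply] at hka ⊢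
    rw [← map_smul, hka, map_smul, e.apply_symm_apply]

theorem bijective_map_atPrime {P Q : Type u} [AddCommGroup P] [Module R P] [AddCommGroup Q] [Module R Q]
    {φ : P →ₗ[R] Q} {g : R} (h : BijAway φ g) (p : Ideal R) [p.IsPrime] (hg : g ∉ p) :
    Function.Bijective (LocalizedModule.map p.primeCompl φ) := by
  have hgk : ∀ k, g ^ k ∈ p.primeCompl := fun k => fun hk => hg (‹p.IsPrime›.mem_of_pow_mem k hk)
  constructor
  · refine (injective_iff_map_eq_zero _).2 fun z hz => ?_
    induction z using LocalizedModule.induction_on with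
    | h x s =>
      rw [LocalizedModule.map_mk, ← LocalizedModule.zero_mk s, LocalizedModule.mk_eq] at hz
      obtain ⟨⟨c, hc⟩, hn⟩ := hz
      simp only [Submonoid.smul_def, smul_zero] at hn
      rw [← φ.map_smul, ← φ.map_smul] at hn
      obtain ⟨k, hk⟩ := h.inj _ hn
      rw [← LocalizedModule.zero_mk s, LocalizedModule.mk_eq]
      refine ⟨⟨g ^ k * c, p.primeCompl.mul_mem (hgk k) hc⟩, ?_⟩
      simp only [Submonoid.smul_def, smul_zero, mul_smul]
      exact hk
  · intro z
    induction z using LocalizedModule.induction_on with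
    | h y s =>
      obtain ⟨k, x, hx⟩ := h.surj y
      refine ⟨LocalizedModule.mk x (⟨g ^ k, hgk k⟩ * s), ?_⟩
      rw [LocalizedModule.map_mk, hx, LocalizedModule.mk_eq]
      refine ⟨1, ?_⟩
      simp only [Submonoid.smul_def, Submonoid.coe_mul, Submonoid.coe_one, one_smul, mul_smul]
      exact smul_comm _ _ _

/-- Descent with invertibility. -/
theorem exists_descent_invertible {B₀ B : Type u} [CommRing B₀] [CommRing B] [IsNoetherianRing B₀] [Algebra B₀ B]
    [Module.Flat B₀ B] (I₀ : Ideal B₀) (I : Ideal B) (hI : I = I₀.map (algebraMap B₀ B)) [HenselianRing B I]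
    [IsNoetherianRing (AdicCompletion I B)] (J : Ideal B) (hJ : I ≤ J)
    (N : Type u) [AddCommGroup N] [Module (AdicCompletion I B) N] [Module.Finite (AdicCompletion I B) N]
    (hN : ∀ (p : Ideal (AdicCompletion I B)) [p.IsPrime], ¬ J.map (algebraMap B (AdicCompletion I B)) ≤ p →
      ∃ (g : AdicCompletion I B) (t : N), g ∉ p ∧ BijAway (LinearMap.toSpanSingleton (AdicCompletion I B) N t) g) :
    ∃ (n m : ℕ) (φ : Matrix (Fin n) (Fin m) B),
      (∀ (q : Ideal B) [q.IsPrime], ¬ J ≤ q →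
        ∃ (g : B) (y : Coker φ), g ∉ q ∧ BijAway (LinearMap.toSpanSingleton B (Coker φ) y) g) ∧
      Nonempty (AdicCompletion I B ⊗[B] Coker φ ≃ₗ[AdicCompletion I B] N) := by
  classical
  let Bh := AdicCompletion I B
  let ρ := algebraMap B Bh
  have hIFG : I.FG := hI ▸ Ideal.FG.map (IsNoetherian.noetherian I₀) _
  have hfree : ∀ (p : Ideal Bh) [p.IsPrime], ¬ J.map ρ ≤ p →
      Module.Free (Localization.AtPrime p) (LocalizedModule p.primeCompl N) := fun p _ hp => by
    obtain ⟨g, t, hg, hb⟩ := hN p hp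
    haveI : Module.Free (Localization.AtPrime p) (LocalizedModule p.primeCompl Bh) :=
      Module.free_of_isLocalizedModule p.primeCompl (LocalizedModule.mkLinearMap p.primeCompl Bh)
    exact Module.Free.of_equiv (LinearEquiv.ofBijective _ (bijective_map_atPrime hb p hg))
  obtain ⟨n, m, a, b, φ, s, ψ, hex, hsJ, hsI, hrad, hcov, ⟨e⟩⟩ := exists_descent_split I₀ I hI J hJ N hfree
  refine ⟨n, m, φ, fun q _ hq => ?_, ⟨e⟩⟩
  let φc := φ.map ρ
  have hex' : ∀ i, φc * (ψ i).map ρ * φc = ρ (s i) • φc := fun i => by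
    rw [← Matrix.map_mul, ← Matrix.map_mul, hex, map_smul_mat]
  let eN : N ≃ₗ[Bh] Coker φc := e.symm.trans (cokerBaseChange φ)
  let K := Ideal.span (testSet φ ψ s)
  -- the obstructions vanish on the completion
  have hann : ∀ (z : B) (x : B), z ∈ J → x ∈ testSet φ ψ s → ∃ l, ρ z ^ l * ρ x = 0 := by
    intro z x hz hx
    suffices h : ρ z ∈ Ideal.radical (LinearMap.ker (LinearMap.toSpanSingleton Bh Bh (ρ x))) by
      obtain ⟨l, hl⟩ := h
      exact ⟨l, hl⟩
    rw [Ideal.radical_eq_sInf, Submodule.mem_sInf]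
    rintro p ⟨hA, hp⟩
    by_contra hzp
    haveI := hp
    obtain ⟨g, t, hg, hb⟩ := hN p fun h => hzp (h (Ideal.mem_map_of_mem ρ hz))
    have key : ∀ k, g ^ k * ρ x = 0 → False := fun k hk => hg (hp.mem_of_pow_mem k (hA hk))
    rcases hx with ⟨i, rfl⟩ | ⟨⟨i, ⟨c, d⟩, a, b⟩, rfl⟩
    · obtain ⟨k, hk⟩ := (testSet_eq_zero φc ((ψ i).map ρ) (ρ (s i)) (hex' i) (eN t) (bijAway_of_equiv eN hb)).1
      refine key k ?_
      rw [RingHom.map_det]
      rwa [RingHom.mapMatrix_apply, Matrix.map_mul]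
    · obtain ⟨k, hk⟩ := (testSet_eq_zero φc ((ψ i).map ρ) (ρ (s i)) (hex' i) (eN t) (bijAway_of_equiv eN hb)).2 c d a b
      refine key k ?_
      have hP : proj φc ((ψ i).map ρ) (ρ (s i)) = (proj φ (ψ i) (s i)).map ρ := by
        rw [Matrix.map_sub ρ (map_sub ρ), map_smul_mat, Matrix.map_one ρ (map_zero ρ) (map_one ρ), Matrix.map_mul]
      rw [hP] at hk
      simpa [minor] using hk
  have hfin : (testSet φ ψ s).Finite := (Set.finite_range _).union (Set.finite_range _)
  have hzero : ∀ j, ∃ l, ∀ M, ∀ x ∈ K, s j ^ l * x ∈ I ^ M := fun j => by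
    choose l hl using fun x : testSet φ ψ s => hann (s j) x (hsJ j) x.2
    haveI := hfin.fintype
    refine ⟨∑ x, l x, fun M x hx => ?_⟩
    induction hx using Submodule.span_induction with
    | mem x hx =>
      refine CAlg5.mem_pow_of_algebraMap_mem I hIFG M _ ?_
      obtain ⟨d, hd⟩ := Nat.exists_eq_add_of_le
        (Finset.single_le_sum (fun y _ => Nat.zero_le (l y)) (Finset.mem_univ (⟨x, hx⟩ : testSet φ ψ s)))
      rw [hd, map_mul, map_pow, add_comm, pow_add, mul_assoc, hl ⟨x, hx⟩, mul_zero]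
      exact zero_mem _
    | zero => simp
    | add u v _ _ hu hv => rw [mul_add]; exact add_mem hu hv
    | smul u v _ hv => rw [smul_eq_mul, mul_left_comm]; exact Ideal.mul_mem_left _ _ hv
  obtain ⟨j, hj⟩ := hcov q hq
  obtain ⟨l, hl⟩ := exists_pow_mul_eq_zero I K HenselianRing.jac hIFG (Submodule.fg_span hfin)
    (fun k => s (Sum.inl k)) hsI hrad (n + 2) s Sum.inl (fun _ => rfl) (fun i x hx => pow_mul_testSet_mem φ ψ s hex i hx)
    hzero j
  exact exists_bijAway_of_testSet (hex j) q hj (fun h => hj (‹q.IsPrime›.mem_of_pow_mem l h))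
    (hl _ (Ideal.subset_span (Or.inl ⟨j, rfl⟩)))
    fun c d a b => hl _ (Ideal.subset_span (Or.inr ⟨(j, (c, d), a, b), rfl⟩))

/-- `Pic` of the complement of `V(J)` surjects onto that of its inverse image in the completion. -/
theorem picPullbackSurjective_completion {B₀ B : Type u} [CommRing B₀] [CommRing B] [IsNoetherianRing B₀]
    [Algebra B₀ B] [Module.Flat B₀ B] (I₀ : Ideal B₀) (I : Ideal B) (hI : I = I₀.map (algebraMap B₀ B))
    [HenselianRing B I] [IsNoetherianRing (AdicCompletion I B)] (J : Ideal B) (hJ : I ≤ J)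
    (V : (Spec (CommRingCat.of B)).Opens)
    (hV : (V : Set (Spec (CommRingCat.of B))) = (PrimeSpectrum.zeroLocus (J : Set B))ᶜ) :
    Formal2.PicPullbackSurjective
      (Spec.map (CommRingCat.ofHom (algebraMap B (AdicCompletion I B))) ∣_ V) := by
  classical
  let Bh := AdicCompletion I B
  let f : Spec (CommRingCat.of Bh) ⟶ Spec (CommRingCat.of B) := Spec.map (CommRingCat.ofHom (algebraMap B Bh))
  haveI : IsNoetherianRing (CommRingCat.of Bh) := inferInstanceAs (IsNoetherianRing Bh)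
  intro L' hL'
  obtain ⟨T, ⟨i⟩, S, hS, hcov⟩ := exists_finite_model (R := CommRingCat.of Bh) (f ⁻¹ᵁ V) L' hL'
  let N : Submodule Bh T := Submodule.span Bh ↑(S.image Prod.snd)
  haveI : Module.Finite Bh N := Module.Finite.span_of_finite Bh (Finset.finite_toSet _)
  have hmem : ∀ x ∈ S, x.2 ∈ N := fun x hx => Submodule.subset_span (Finset.mem_image_of_mem _ hx)
  obtain ⟨j⟩ := nonempty_span_restrict_iso (R := CommRingCat.of Bh) (O := f ⁻¹ᵁ V) N fun q hq => by
    obtain ⟨x, hxs, hx⟩ := hcov q hq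
    exact ⟨x.1, hx, (span_bijAway (hmem x hxs) (hS x hxs).2).2⟩
  have hpre : ∀ p : PrimeSpectrum Bh, ¬ J.map (algebraMap B Bh) ≤ p.asIdeal → p ∈ f ⁻¹ᵁ V := fun p hp => by
    show PrimeSpectrum.comap (algebraMap B Bh) p ∈ (V : Set (Spec (CommRingCat.of B)))
    rw [hV]
    exact fun h => hp (Ideal.map_le_iff_le_comap.2 h)
  obtain ⟨n, m, φ, hφ, ⟨e⟩⟩ := exists_descent_invertible I₀ I hI J hJ N fun p _ hp => by
    obtain ⟨x, hxs, hx⟩ := hcov ⟨p, ‹_›⟩ (hpre ⟨p, ‹_›⟩ hp)
    exact ⟨x.1, _, hx, (span_bijAway (hmem x hxs) (hS x hxs).2).1⟩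
  let M : ModuleCat.{u} (CommRingCat.of B) := ModuleCat.of B (Coker φ)
  have hinv : PicF.IsInvertible ((tilde M).restrict V.ι) := by
    refine isInvertible_restrict_of_framedOn' (framedOn_tilde (R := CommRingCat.of B) (T := M) fun q hq => ?_)
    have hq' : ¬ J ≤ q.asIdeal := fun h => (hV.le hq : q ∈ (PrimeSpectrum.zeroLocus (J : Set B))ᶜ) h
    obtain ⟨g, y, hg, hb⟩ := hφ q.asIdeal hq'
    obtain ⟨x, hxJ, hxq⟩ := SetLike.not_le_iff_exists.1 hq'
    refine ⟨g * x, y, fun h => (q.2.mem_or_mem h).elim hg hxq, fun p hp => ?_, hb.mul_right x⟩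
    show p ∈ (V : Set (Spec (CommRingCat.of B)))
    rw [hV]
    exact fun h => hp (p.asIdeal.mul_mem_left g (h hxJ))
  obtain ⟨k⟩ := TildePull72.nonempty_pullback_tilde_iso (CommRingCat.of B) Bh (Coker φ)
  refine ⟨_, hinv, ⟨?_⟩⟩
  exact (Scheme.Modules.pullback (f ∣_ V)).mapIso ((Scheme.Modules.restrictFunctorIsoPullback V.ι).app (tilde M)) ≪≫
    (Amp73.pullRestrictIso f V).app (tilde M) ≪≫
    (Scheme.Modules.restrictFunctor (f ⁻¹ᵁ V).ι).mapIso
      (k ≪≫ (tilde.functor (CommRingCat.of Bh)).mapIso e.toModuleIso) ≪≫ j ≪≫ i.symm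

end Groth.Agent.ParaF26.Elkik
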