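import Groth.Agent.Hens22.Integral
import Groth.Agent.Hens22.Coprime
import Mathlib.LinearAlgebra.Matrix.Charpoly.Coeff
import Mathlib.LinearAlgebra.Matrix.NonsingularInverse

/-!
Elkik approximation for presentations of modules which are projective off a closed subset: the case of
one element `t` of a henselian pair, with bounded `t`-torsion. All computations are with matrices.
-/

set_option autoImplicit false
set_option linter.style.haveILetI false

universe u

open Polynomial Matrix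

namespace Groth.Agent.ParaF26.Elkik

variable {B : Type u} [CommRing B]

/-- The torsion of `t` is killed by `t ^ c`. -/
def Bdd (t : B) (c : ℕ) : Prop := ∀ (x : B) (m : ℕ), t ^ m * x = 0 → t ^ c * x = 0

theorem Bdd.cancel {t : B} {c : ℕ} (hb : Bdd t c) {l p : ℕ} {X : Matrix (Fin l) (Fin p) B} {m e : ℕ}
    (hm : t ^ m • X = 0) (he : c ≤ e) : t ^ e • X = 0 := by
  ext i j
  have h := congrFun (congrFun hm i) j
  simp only [Matrix.smul_apply, smul_eq_mul, Matrix.zero_apply] at h ⊢
  obtain ⟨d, rfl⟩ := Nat.exists_eq_add_of_le he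
  rw [add_comm, pow_add, mul_assoc, hb _ m h, mul_zero]

/-- A matrix congruent to zero modulo `t` has a characteristic polynomial congruent to `X ^ n`. -/
theorem mk_mem_radical {t : B} {n : ℕ} (η : Matrix (Fin n) (Fin n) B) (hη : ∀ i j, η i j ∈ Ideal.span {t}) :
    Ideal.Quotient.mk (Ideal.span {η.charpoly}) X ∈
      ((Ideal.span {t}).map (algebraMap B (B[X] ⧸ Ideal.span {η.charpoly}))).radical := by
  set π := Ideal.Quotient.mk (Ideal.span {t})
  have h1 : η.charpoly.map π = X ^ n := by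
    have h0 : η.map π = 0 := by
      ext i j
      exact Ideal.Quotient.eq_zero_iff_mem.2 (hη i j)
    rw [← Matrix.charpoly_map, h0, Matrix.charpoly_zero, Fintype.card_fin]
  have h2 : X ^ n - η.charpoly ∈ (Ideal.span {t}).map (C : B →+* B[X]) := by
    rw [Ideal.mem_map_C_iff]
    intro j
    rw [← Ideal.Quotient.eq_zero_iff_mem]
    have h := congrArg (fun p => Polynomial.coeff p j) h1
    simp only [Polynomial.coeff_map] at h
    rw [Polynomial.coeff_sub, map_sub, sub_eq_zero, h]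
    simp only [Polynomial.coeff_X_pow]
    split_ifs <;> simp
  refine ⟨n, ?_⟩
  have h3 := Ideal.mem_map_of_mem (Ideal.Quotient.mk (Ideal.span {η.charpoly})) h2
  rw [map_sub, Ideal.Quotient.eq_zero_iff_mem.2 (Ideal.mem_span_singleton_self η.charpoly), sub_zero, map_pow,
    Ideal.map_map] at h3
  exact h3

/-- The root near zero of `Y ^ 2 - Y + η / (1 + 4 η)`, as a power series in `η`. -/
theorem exists_root {t : B} [HenselianRing B (Ideal.span {t})] {n : ℕ} (η : Matrix (Fin n) (Fin n) B)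
    (hη : ∀ i j, η i j ∈ Ideal.span {t}) :
    ∃ w : B[X], η = (1 + 4 * η) * (η * aeval η w - (η * aeval η w) * (η * aeval η w)) := by
  classical
  let C := B[X] ⧸ Ideal.span {η.charpoly}
  haveI : Module.Finite B C := η.charpoly_monic.finite_quotient
  haveI : Algebra.IsIntegral B C := inferInstance
  let J := ((Ideal.span {t}).map (algebraMap B C)).radical
  haveI : HenselianRing C J := by
    haveI := Hens22.henselianRing_of_isIntegral (Ideal.span {t}) C
    exact Hens22.henselianRing_radical _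
  let x : C := Ideal.Quotient.mk _ X
  have hx : x ∈ J := mk_mem_radical η hη
  have hjac : J ≤ Ideal.jacobson ⊥ := HenselianRing.jac
  have hu : IsUnit (1 + 4 * x) := by
    have h := Ideal.mem_jacobson_bot.1 (hjac hx) 4
    rwa [add_comm, mul_comm]
  obtain ⟨v, hv⟩ := hu.exists_right_inv
  let p : C[X] := X ^ 2 + (-X + Polynomial.C (x * v))
  have hp : p.Monic := monic_X_pow_add (lt_of_le_of_lt (degree_add_le _ _)
    (max_lt (by rw [degree_neg]; exact lt_of_le_of_lt degree_X_le (by norm_num))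
      (lt_of_le_of_lt degree_C_le (by norm_num))))
  obtain ⟨y, hy, hyJ⟩ := HenselianRing.is_henselian (I := J) p hp 0
    (by simpa [p] using J.mul_mem_right v hx)
    (by simp [p, derivative_X_pow])
  have hy0 : y ^ 2 - y + x * v = 0 := by
    have h : p.eval y = 0 := hy
    simp only [p, eval_add, eval_pow, eval_X, eval_neg, eval_C] at h
    linear_combination h
  rw [sub_zero] at hyJ
  have hu' : IsUnit (1 - y) := by
    have h := Ideal.mem_jacobson_bot.1 (hjac hyJ) (-1)
    rwa [show y * -1 + 1 = 1 - y by ring] at h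
  obtain ⟨z, hz⟩ := hu'.exists_right_inv
  obtain ⟨w, hw⟩ := Ideal.Quotient.mk_surjective (v * z)
  refine ⟨w, ?_⟩
  have hyz : y = x * (v * z) := by linear_combination (-z) * hy0 + (-y) * hz
  have key : x = (1 + 4 * x) * (x * (v * z) - (x * (v * z)) * (x * (v * z))) := by
    rw [← hyz]; linear_combination (-x) * hv + (1 + 4 * x) * hy0
  have h := (Ideal.Quotient.eq (I := Ideal.span {η.charpoly})).1
    (show Ideal.Quotient.mk _ X = Ideal.Quotient.mk _ ((1 + 4 * X) * (X * w - (X * w) * (X * w))) by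
      simp only [map_mul, map_add, map_one, map_sub, hw, map_ofNat]
      exact key)
  obtain ⟨q, hq⟩ := Ideal.mem_span_singleton'.1 h
  have h4 := congrArg (aeval η) hq
  rw [map_mul, Matrix.aeval_self_charpoly, mul_zero, map_sub] at h4
  have h5 := sub_eq_zero.1 h4.symm
  simpa only [map_mul, map_add, map_one, map_sub, map_ofNat, aeval_X] using h5

theorem commute_aeval {n : ℕ} {P η : Matrix (Fin n) (Fin n) B} (h : Commute P η) (w : B[X]) :
    Commute P (aeval η w) := by
  induction w using Polynomial.induction_on' with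
  | add p q hp hq => rw [map_add]; exact hp.add_right hq
  | monomial k a => rw [aeval_monomial]; exact (Algebra.commute_algebraMap_right a P).mul_right (h.pow_right k)

/-- A near quasi-idempotent is near a quasi-idempotent. -/
theorem exists_idem {t : B} [HenselianRing B (Ideal.span {t})] {c : ℕ} (hb : Bdd t c) {n : ℕ}
    (P G : Matrix (Fin n) (Fin n) B) {M : ℕ} (hM : c + 3 ≤ M) (h : P * P = t • P + t ^ M • G) :
    ∃ D : Matrix (Fin n) (Fin n) B,
      (P + t ^ (M - 2) • D) * (P + t ^ (M - 2) • D) = t • (P + t ^ (M - 2) • D) := by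
  let η : Matrix (Fin n) (Fin n) B := t ^ (M - 2) • G
  have hε : t ^ M • G = (t * t) • η := by
    show t ^ M • G = (t * t) • (t ^ (M - 2) • G)
    rw [smul_smul, show t * t * t ^ (M - 2) = t ^ M by rw [← sq, ← pow_add]; congr 1; omega]
  have hcom : Commute P η := by
    have h1 : t ^ M • (P * G - G * P) = 0 := by
      have h2 : P * (P * P) = (P * P) * P := (mul_assoc _ _ _).symm
      rw [h, mul_add, add_mul, mul_smul_comm, smul_mul_assoc, mul_smul_comm, smul_mul_assoc] at h2
      rw [smul_sub, sub_eq_zero]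
      exact add_left_cancel h2
    have h3 := hb.cancel h1 (show c ≤ M - 2 by omega)
    show P * η = η * P
    rw [mul_smul_comm, smul_mul_assoc, ← sub_eq_zero, ← smul_sub]
    exact h3
  obtain ⟨w, hw⟩ := exists_root (t := t) η fun i j => by
    show t ^ (M - 2) • G i j ∈ _
    rw [smul_eq_mul, Ideal.mem_span_singleton]
    exact (dvd_pow_self t (by omega)).mul_right _
  let Y := η * aeval η w
  have hw' : η = (1 + 4 * η) * (Y - Y * Y) := hw
  have hPY : Commute P Y := hcom.mul_right (commute_aeval hcom w)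
  let d := t • (1 : Matrix (Fin n) (Fin n) B) - 2 * P
  have hd : d * d = (t * t) • (1 + 4 * η) := by
    show (t • (1 : Matrix (Fin n) (Fin n) B) - 2 * P) * (t • 1 - 2 * P) = _
    simp only [sub_mul, mul_sub, smul_mul_assoc, mul_smul_comm, one_mul, mul_one, two_mul, add_mul, mul_add,
      smul_add, h, hε, smul_smul, smul_add, smul_sub, show (4 : Matrix (Fin n) (Fin n) B) * η = η + η + η + η by
        rw [show (4 : Matrix (Fin n) (Fin n) B) = 1 + 1 + 1 + 1 by norm_num]; simp only [add_mul, one_mul]]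
    module
  refine ⟨d * (G * aeval η w), ?_⟩
  have hQ : P + t ^ (M - 2) • (d * (G * aeval η w)) = P + d * Y := by
    show _ = P + d * ((t ^ (M - 2) • G) * aeval η w)
    rw [smul_mul_assoc, mul_smul_comm]
  rw [hQ]
  have hdY : Commute d Y :=
    ((Commute.one_left Y).smul_left t).sub_left ((Nat.cast_commute 2 Y).mul_left hPY)
  have hPd : Commute P d :=
    ((Commute.one_right P).smul_right t).sub_right ((Nat.commute_cast P 2).mul_right (Commute.refl P))
  have e1 : (d * Y) * (d * Y) = (d * d) * (Y * Y) := hdY.symm.mul_mul_mul_comm d Y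
  have e2 : (d * Y) * P = P * (d * Y) := ((hPd.mul_right hPY)).eq.symm
  calc (P + d * Y) * (P + d * Y) = P * P + (P + P) * (d * Y) + (d * d) * (Y * Y) := by
        rw [add_mul, mul_add, mul_add, e1, e2, add_mul]; abel
    _ = t • P + (t * t) • η + (P + P) * (d * Y) + (t * t) • ((1 + 4 * η) * (Y * Y)) := by
        rw [h, hε, hd, smul_mul_assoc]
    _ = t • (P + d * Y) := by
        have e3 : (P + P) * (d * Y) = t • (d * Y) - (t * t) • ((1 + 4 * η) * Y) := by
          rw [show P + P = t • (1 : Matrix (Fin n) (Fin n) B) - d by simp only [d, two_mul]; abel, sub_mul,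
            smul_mul_assoc, one_mul, ← mul_assoc d d Y, hd, smul_mul_assoc]
        rw [e3, show (t * t) • η = (t * t) • ((1 + 4 * η) * Y) - (t * t) • ((1 + 4 * η) * (Y * Y)) by
          rw [← smul_sub, ← mul_sub]; exact congrArg _ hw', smul_add]
        abel

/-- A near solution of `φ ψ φ = t φ` is near a solution. -/
theorem exists_main {t : B} [HenselianRing B (Ideal.span {t})] {c : ℕ} (hb : Bdd t c) {n m : ℕ}
    (φ E : Matrix (Fin n) (Fin m) B) (ψ : Matrix (Fin m) (Fin n) B) {M : ℕ} (hM : c + 6 ≤ M)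
    (h : φ * ψ * φ = t • φ + t ^ M • E) :
    ∃ (D : Matrix (Fin n) (Fin m) B) (D' : Matrix (Fin m) (Fin n) B),
      (φ + t ^ (M - 5) • D) * (ψ + t ^ (M - 5) • D') * (φ + t ^ (M - 5) • D) = t • (φ + t ^ (M - 5) • D) := by
  classical
  obtain ⟨N, rfl⟩ : ∃ N, M = N + 5 := ⟨M - 5, by omega⟩
  simp only [Nat.add_sub_cancel]
  obtain ⟨D₀, hQ⟩ := exists_idem hb (φ * ψ) (E * ψ) (M := N + 5) (by omega) (by
    rw [← Matrix.mul_assoc, h, Matrix.add_mul, Matrix.smul_mul, Matrix.smul_mul])
  rw [show N + 5 - 2 = N + 3 by omega] at hQ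
  set Q := φ * ψ + t ^ (N + 3) • D₀ with hQdef
  -- adjust `φ`
  let D₁ : Matrix (Fin n) (Fin m) B := t ^ 2 • E + D₀ * φ
  have hQφ : Q * φ = t • φ + t ^ (N + 3) • D₁ := by
    rw [hQdef, Matrix.add_mul, h, Matrix.smul_mul, smul_add, smul_smul, ← pow_add, show N + 3 + 2 = N + 5 by omega]
    abel
  let φ₁ := φ + t ^ (N + 2) • D₁
  have h1 : t • φ₁ = Q * φ := by
    rw [hQφ, smul_add, smul_smul, show t * t ^ (N + 2) = t ^ (N + 3) by ring]
  have h2 : Q * φ₁ = t • φ₁ := by
    have hex : Q * φ₁ - t • φ₁ = t ^ (N + 2) • (Q * D₁) := by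
      rw [h1, Matrix.mul_add, Matrix.mul_smul]
      abel
    have hz : t ^ (1 + (N + 2)) • (Q * D₁) = 0 := by
      rw [pow_add, pow_one, ← smul_smul, ← hex, smul_sub, ← Matrix.mul_smul, h1, ← Matrix.mul_assoc, hQ,
        Matrix.smul_mul, sub_self]
    rw [← sub_eq_zero, hex]
    exact hb.cancel hz (by omega)
  -- the cokernel endomorphism
  let D₂ : Matrix (Fin n) (Fin n) B := D₁ * ψ - t • D₀
  let T := φ₁ * ψ
  have hT : T = Q + t ^ (N + 2) • D₂ := by
    show (φ + t ^ (N + 2) • D₁) * ψ = _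
    rw [Matrix.add_mul, Matrix.smul_mul, hQdef, smul_sub, smul_smul, show t ^ (N + 2) * t = t ^ (N + 3) by ring]
    abel
  let R := D₂ * Q
  have hR : Q * (t ^ N • R) = (t ^ N • R) * Q := by
    have h3 : t ^ (N + 2) • D₂ = T - Q := by rw [hT]; abel
    have h4 : t ^ (N + 2) • (Q * R - R * Q) = 0 := by
      have hQT : Q * T = t • T := by
        show Q * (φ₁ * ψ) = _
        rw [← Matrix.mul_assoc, h2, Matrix.smul_mul]
      calc t ^ (N + 2) • (Q * R - R * Q)
          = Q * (t ^ (N + 2) • D₂) * Q - (t ^ (N + 2) • D₂) * (Q * Q) := by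
            simp only [R, smul_sub, Matrix.mul_smul, Matrix.smul_mul, Matrix.mul_assoc]
        _ = 0 := by
            rw [h3, Matrix.mul_sub, hQT, hQ, Matrix.sub_mul (T : Matrix (Fin n) (Fin n) B), Matrix.sub_mul]
            simp only [Matrix.smul_mul, Matrix.mul_smul]
            abel
    rw [Matrix.mul_smul, Matrix.smul_mul, ← sub_eq_zero, ← smul_sub]
    exact hb.cancel h4 (by omega)
  let W := 1 + t ^ N • R
  have hWu : IsUnit W := by
    rw [Matrix.isUnit_iff_isUnit_det]
    refine Hens22.isUnit_of_map_isUnit (HenselianRing.jac (I := Ideal.span {t})) ?_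
    rw [RingHom.map_det]
    convert isUnit_one
    rw [show (Ideal.Quotient.mk (Ideal.span {t})).mapMatrix W = 1 from ?_, Matrix.det_one]
    rw [map_add, map_one, add_eq_left]
    ext i j
    exact Ideal.Quotient.eq_zero_iff_mem.2 (Ideal.mem_span_singleton.2 ((dvd_pow_self t (by omega)).mul_right _))
  obtain ⟨U, hU⟩ := hWu.exists_left_inv
  have hWU : W * U = 1 := by rwa [mul_eq_one_comm]
  have hQU : Q * U = U * Q := by
    have hQW : Q * W = W * Q := by
      show Q * (1 + t ^ N • R) = (1 + t ^ N • R) * Q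
      simp only [mul_add, add_mul, mul_one, one_mul, hR]
    calc Q * U = U * W * (Q * U) := by rw [hU, one_mul]
      _ = U * (W * Q) * U := by simp only [mul_assoc]
      _ = U * Q := by rw [← hQW]; simp only [mul_assoc]; rw [hWU, mul_one]
  refine ⟨t ^ 2 • D₁, -(ψ * (U * R)), ?_⟩
  have hψ' : ψ + t ^ N • -(ψ * (U * R)) = ψ * U := by
    have h5 : U = 1 - t ^ N • (U * R) := by
      rw [eq_sub_iff_add_eq]
      calc U + t ^ N • (U * R) = U * (1 + t ^ N • R) := by rw [mul_add, mul_one, mul_smul_comm]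
        _ = 1 := hU
    conv_rhs => rw [h5]
    rw [Matrix.mul_sub, Matrix.mul_one, Matrix.mul_smul, smul_neg, sub_eq_add_neg]
  have hφ' : φ + t ^ N • (t ^ 2 • D₁) = φ₁ := by rw [smul_smul, ← pow_add]
  rw [hψ', hφ']
  have hZ : Q * (U * φ₁) = t • (U * φ₁) := by
    rw [← Matrix.mul_assoc, hQU, Matrix.mul_assoc, h2, Matrix.mul_smul]
  calc φ₁ * (ψ * U) * φ₁ = T * (U * φ₁) := by simp only [T, Matrix.mul_assoc]
    _ = t • (W * (U * φ₁)) := by
        rw [hT, Matrix.add_mul, hZ, Matrix.smul_mul, Matrix.add_mul, Matrix.one_mul, Matrix.smul_mul, smul_add,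
          Matrix.mul_assoc D₂ Q, hZ, Matrix.mul_smul, smul_smul, smul_smul]
        congr 2
        ring
    _ = t • φ₁ := by rw [← Matrix.mul_assoc, hWU, Matrix.one_mul]

/-- The auxiliary equations follow. -/
theorem exists_aux {t : B} {c : ℕ} (hb : Bdd t c) {n m : ℕ} (φ E : Matrix (Fin n) (Fin m) B)
    (ψ₀ ψ : Matrix (Fin m) (Fin n) B) (s : B) (h₀ : φ * ψ₀ * φ = t • φ) {M : ℕ} (hM : c + 3 ≤ M)
    (h : φ * ψ * φ = s • φ + t ^ M • E) :
    ∃ D : Matrix (Fin m) (Fin n) B, φ * (ψ + t ^ (M - 3) • D) * φ = s • φ := by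
  obtain ⟨N, rfl⟩ : ∃ N, M = N + 3 := ⟨M - 3, by omega⟩
  simp only [Nat.add_sub_cancel]
  refine ⟨-(t • (ψ₀ * E * ψ₀)), ?_⟩
  let X : Matrix (Fin n) (Fin m) B := φ * (ψ₀ * E * ψ₀) * φ - t ^ 2 • E
  have hex : φ * (ψ + t ^ N • -(t • (ψ₀ * E * ψ₀))) * φ - s • φ = -(t ^ (N + 1) • X) := by
    have hL : φ * (ψ + t ^ N • -(t • (ψ₀ * E * ψ₀))) * φ =
        φ * ψ * φ - t ^ (N + 1) • (φ * (ψ₀ * E * ψ₀) * φ) := by
      rw [Matrix.mul_add, Matrix.add_mul, Matrix.mul_smul, Matrix.smul_mul, Matrix.mul_neg, Matrix.neg_mul,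
        Matrix.mul_smul, Matrix.smul_mul, smul_neg, smul_smul, ← pow_succ, sub_eq_add_neg]
    rw [hL, h]
    simp only [X, smul_sub, smul_smul, ← pow_add, show N + 1 + 2 = N + 3 by omega]
    abel
  have hz : t ^ (N + 3) • X = 0 := by
    have hE : t ^ (N + 3) • E = φ * ψ * φ - s • φ := by rw [h]; abel
    have hE' : φ * (ψ₀ * (φ * ψ * φ - s • φ) * ψ₀) * φ = t ^ 2 • (φ * ψ * φ - s • φ) := by
      simp only [Matrix.mul_sub, Matrix.sub_mul, Matrix.mul_smul, Matrix.smul_mul, smul_sub]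
      congr 1
      · rw [show φ * (ψ₀ * (φ * ψ * φ) * ψ₀) * φ = (φ * ψ₀ * φ) * ψ * (φ * ψ₀ * φ) by
            simp only [Matrix.mul_assoc], h₀]
        simp only [Matrix.mul_smul, Matrix.smul_mul, smul_smul, sq]
      · rw [show φ * (ψ₀ * φ * ψ₀) * φ = (φ * ψ₀ * φ) * ψ₀ * φ by simp only [Matrix.mul_assoc], h₀,
          Matrix.smul_mul, Matrix.smul_mul, h₀, smul_smul, smul_smul, smul_smul]
        congr 1
        ring
    rw [← hE] at hE'
    simp only [Matrix.mul_smul, Matrix.smul_mul] at hE'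
    simp only [X, smul_sub, hE', smul_comm (t ^ (N + 3)) (t ^ 2), sub_self]
  rw [← sub_eq_zero, hex, hb.cancel hz (by omega), neg_zero]

/-- Maps between cokernels near a given one. -/
theorem exists_hom {t : B} {c : ℕ} (hb : Bdd t c) {n m n' m' : ℕ} (φ : Matrix (Fin n) (Fin m) B)
    (ψ : Matrix (Fin m) (Fin n) B) (h : φ * ψ * φ = t • φ) (φ' : Matrix (Fin n') (Fin m') B)
    (ψ' : Matrix (Fin m') (Fin n') B) (h' : φ' * ψ' * φ' = t • φ') (g : Matrix (Fin n') (Fin n) B)
    (Y : Matrix (Fin m') (Fin m) B) (Z : Matrix (Fin n') (Fin m) B) {M : ℕ} (hM : c + 2 ≤ M)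
    (hg : g * φ = φ' * Y + t ^ M • Z) :
    ∃ (D : Matrix (Fin n') (Fin n) B) (Y' : Matrix (Fin m') (Fin m) B),
      (g + t ^ (M - 1) • D) * φ = φ' * Y' := by
  obtain ⟨N, rfl⟩ : ∃ N, M = N + 1 := ⟨M - 1, by omega⟩
  simp only [Nat.add_sub_cancel]
  let Z' : Matrix (Fin n') (Fin m) B := t • Z - Z * ψ * φ
  have hg1 : (g + t ^ N • -(Z * ψ)) * φ = φ' * Y + t ^ N • Z' := by
    rw [Matrix.add_mul, hg, Matrix.smul_mul, Matrix.neg_mul]
    simp only [Z', smul_sub, smul_neg, smul_smul, ← pow_succ]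
    abel
  -- multiply by the two projectors
  let π : Matrix (Fin n) (Fin n) B := t • 1 - φ * ψ
  let π' : Matrix (Fin n') (Fin n') B := t • 1 - φ' * ψ'
  have hπ : π * φ = 0 := by
    rw [Matrix.sub_mul, Matrix.smul_mul, Matrix.one_mul, h, sub_self]
  have hπ' : π' * φ' = 0 := by
    rw [Matrix.sub_mul, Matrix.smul_mul, Matrix.one_mul, h', sub_self]
  have hgπ : g * π = t • (g + t ^ N • -(Z * ψ)) - φ' * (Y * ψ) := by
    rw [Matrix.mul_sub, Matrix.mul_smul, Matrix.mul_one, ← Matrix.mul_assoc, hg, Matrix.add_mul, Matrix.smul_mul,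
      smul_add, smul_smul, smul_neg, show t * t ^ N = t ^ (N + 1) by ring, Matrix.mul_assoc φ' Y ψ]
    abel
  have hz : t ^ (N + 1) • (π' * Z') = 0 := by
    have h1 : π' * (g * π) * φ = 0 := by rw [Matrix.mul_assoc, Matrix.mul_assoc g, hπ, Matrix.mul_zero, Matrix.mul_zero]
    rw [hgπ, Matrix.mul_sub, ← Matrix.mul_assoc π' φ', hπ', Matrix.zero_mul, sub_zero, Matrix.mul_smul,
      Matrix.smul_mul, Matrix.mul_assoc, hg1, Matrix.mul_add, ← Matrix.mul_assoc, hπ', Matrix.zero_mul, zero_add,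
      Matrix.mul_smul, smul_smul] at h1
    rwa [show t ^ (N + 1) = t * t ^ N by ring]
  obtain ⟨p, rfl⟩ : ∃ p, N = p + 1 := ⟨N - 1, by omega⟩
  refine ⟨-(Z * ψ), Y + t ^ p • (ψ' * Z'), ?_⟩
  have h2 := hb.cancel hz (show c ≤ p by omega)
  rw [hg1, Matrix.mul_add, Matrix.mul_smul]
  congr 1
  rw [← sub_eq_zero]
  calc t ^ (p + 1) • Z' - t ^ p • (φ' * (ψ' * Z')) = t ^ p • (π' * Z') := by
        simp only [π', Matrix.sub_mul, Matrix.smul_mul, Matrix.one_mul, smul_sub, smul_smul, ← pow_succ,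
          Matrix.mul_assoc]
    _ = 0 := h2

end Groth.Agent.ParaF26.Elkik
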