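import Groth.Agent.ParaF26.Elkik.Lift
import Groth.Agent.ParaF26.AwayBij

/-!
The descended module of an invertible module is invertible.
-/

set_option autoImplicit false
set_option linter.style.haveILetI false

universe u

open Matrix TensorProduct

namespace Groth.Agent.ParaF26.Elkik

theorem sum_pairs_mem {B : Type u} [CommRing B] {α : Type*} [DecidableEq α] (I : Ideal B) (f : α → α → B)
    (S : Finset α) (hd : ∀ k, f k k ∈ I) (hs : ∀ k l, f k l + f l k ∈ I) : ∑ k ∈ S, ∑ l ∈ S, f k l ∈ I := by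
  induction S using Finset.induction_on with
  | empty => simp
  | insert a S ha ih =>
    simp only [Finset.sum_insert ha, Finset.sum_add_distrib]
    have h : ∑ l ∈ S, f a l + ∑ k ∈ S, f k a ∈ I := by
      rw [← Finset.sum_add_distrib]
      exact sum_mem fun l _ => hs a l
    convert add_mem (add_mem (hd a) h) ih using 1
    ring

variable {B : Type u} [CommRing B] {n m : ℕ} {ι : Type*} [Finite ι]

/-- A two by two minor. -/
def minor (P : Matrix (Fin n) (Fin n) B) (c d a b : Fin n) : B := P c a * P d b - P c b * P d a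

theorem minor_mul (P R : Matrix (Fin n) (Fin n) B) (c d a b : Fin n) :
    minor (P * R) c d a b = ∑ k, ∑ l, P c k * P d l * minor R k l a b := by
  simp only [minor, Matrix.mul_apply, Finset.sum_mul_sum, ← Finset.sum_sub_distrib]
  exact Finset.sum_congr rfl fun k _ => Finset.sum_congr rfl fun l _ => by ring

theorem minor_smul (x : B) (P : Matrix (Fin n) (Fin n) B) (c d a b : Fin n) :
    minor (x • P) c d a b = x ^ 2 * minor P c d a b := by
  simp only [minor, Matrix.smul_apply, smul_eq_mul]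
  ring

theorem minor_mul_mem (P R : Matrix (Fin n) (Fin n) B) (K K' : Ideal B) (hP : ∀ c d a b, minor P c d a b ∈ K)
    (hR : ∀ c d a b, minor R c d a b ∈ K') (c d a b : Fin n) : minor (P * R) c d a b ∈ K * K' := by
  classical
  rw [minor_mul]
  refine sum_pairs_mem _ _ _ (fun k => ?_) fun k l => ?_
  · have h : minor R k k a b = 0 := by simp [minor]; ring
    rw [h, mul_zero]
    exact zero_mem _
  · have h : P c k * P d l * minor R k l a b + P c l * P d k * minor R l k a b =
        minor P c d k l * minor R k l a b := by simp only [minor]; ring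
    rw [h]
    exact Ideal.mul_mem_mul (hP c d k l) (hR k l a b)

/-- The cokernel projector. -/
abbrev proj (φ : Matrix (Fin n) (Fin m) B) (ψ : Matrix (Fin m) (Fin n) B) (s : B) : Matrix (Fin n) (Fin n) B :=
  s • 1 - φ * ψ

theorem proj_mul_self {φ : Matrix (Fin n) (Fin m) B} {ψ : Matrix (Fin m) (Fin n) B} {s : B}
    (h : φ * ψ * φ = s • φ) : proj φ ψ s * φ = 0 := by
  rw [Matrix.sub_mul, Matrix.smul_mul, Matrix.one_mul, h, sub_self]

/-- The obstructions to having rank one. -/
def testSet (φ : Matrix (Fin n) (Fin m) B) (ψ : ι → Matrix (Fin m) (Fin n) B) (s : ι → B) : Set B :=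
  Set.range (fun i => (φ * ψ i).det) ∪
    Set.range fun x : ι × (Fin n × Fin n) × Fin n × Fin n => minor (proj φ (ψ x.1) (s x.1)) x.2.1.1 x.2.1.2 x.2.2.1 x.2.2.2

theorem pow_mul_testSet_mem (φ : Matrix (Fin n) (Fin m) B) (ψ : ι → Matrix (Fin m) (Fin n) B) (s : ι → B)
    (h : ∀ i, φ * ψ i * φ = s i • φ) (j : ι) {x : B} (hx : x ∈ Ideal.span (testSet φ ψ s)) :
    s j ^ (n + 2) * x ∈ Ideal.span (testSet φ ψ s) * Ideal.span (testSet φ ψ s) := by
  induction hx using Submodule.span_induction with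
  | mem x hx =>
    rcases hx with ⟨i, rfl⟩ | ⟨⟨i, ⟨c, d⟩, a, b⟩, rfl⟩
    · have e : (φ * ψ j) * (φ * ψ i) = s j • (φ * ψ i) := by rw [← Matrix.mul_assoc, h, Matrix.smul_mul]
      have e2 := congrArg Matrix.det e
      rw [Matrix.det_mul, Matrix.det_smul, Fintype.card_fin] at e2
      rw [pow_add, mul_comm (s j ^ n), mul_assoc, ← e2]
      exact Ideal.mul_mem_left _ _ (Ideal.mul_mem_mul (Ideal.subset_span (Or.inl ⟨j, rfl⟩))
        (Ideal.subset_span (Or.inl ⟨i, rfl⟩)))
    · have e : proj φ (ψ i) (s i) * proj φ (ψ j) (s j) = s j • proj φ (ψ i) (s i) := by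
        rw [Matrix.mul_sub, Matrix.mul_smul, Matrix.mul_one, ← Matrix.mul_assoc, proj_mul_self (h i),
          Matrix.zero_mul, sub_zero]
      show s j ^ (n + 2) * minor (proj φ (ψ i) (s i)) c d a b ∈ _
      rw [pow_add, mul_assoc, ← minor_smul, ← e]
      refine Ideal.mul_mem_left _ _ (minor_mul_mem _ _ _ _ (fun c d a b => ?_) (fun c d a b => ?_) c d a b)
      · exact Ideal.subset_span (Or.inr ⟨(i, (c, d), a, b), rfl⟩)
      · exact Ideal.subset_span (Or.inr ⟨(j, (c, d), a, b), rfl⟩)
  | zero => simp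
  | add u v _ _ hu hv => rw [mul_add]; exact add_mem hu hv
  | smul u v _ hv => rw [smul_eq_mul, mul_left_comm]; exact Ideal.mul_mem_left _ _ hv

/-- An idempotent-like ideal which is infinitesimally zero is zero after inverting the `s j`. -/
theorem exists_pow_mul_eq_zero {κ : Type*} [Finite κ] (I K : Ideal B) (hI : I ≤ Ideal.jacobson ⊥) (hIfg : I.FG)
    (hK : K.FG) (t : κ → B) (ht : ∀ k, t k ∈ I) (hrad : I ≤ (Ideal.span (Set.range t)).radical)
    (e : ℕ) (s : ι → B) (inT : κ → ι) (hts : ∀ k, s (inT k) = t k)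
    (hid : ∀ j, ∀ x ∈ K, s j ^ e * x ∈ K * K) (hzero : ∀ j, ∃ l, ∀ N, ∀ x ∈ K, s j ^ l * x ∈ I ^ N) (j : ι) :
    ∃ l, ∀ x ∈ K, s j ^ l * x = 0 := by
  classical
  cases nonempty_fintype ι
  cases nonempty_fintype κ
  choose l hl using hzero
  let E := 2 * e + ∑ i, l i + 1
  have key : ∀ i N, ∀ x ∈ K, s i ^ E * x ∈ I ^ N * K := fun i N x hx => by
    have hE : s i ^ E * x = s i ^ (E - (e + l i)) * (s i ^ l i * (s i ^ e * x)) := by
      have h1 : l i ≤ ∑ i, l i := Finset.single_le_sum (fun i _ => Nat.zero_le (l i)) (Finset.mem_univ i)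
      rw [← mul_assoc, ← mul_assoc, ← pow_add, ← pow_add]
      congr 2
      show E = _
      omega
    rw [hE]
    refine Ideal.mul_mem_left _ _ ?_
    refine Submodule.mul_induction_on (hid i x hx) (fun a ha b hb => ?_) fun a b ha hb => ?_
    · rw [← mul_assoc]
      exact Ideal.mul_mem_mul (hl i N a ha) hb
    · rw [mul_add]; exact add_mem ha hb
  have hpow : ∀ M, ∃ N, I ^ N ≤ Ideal.span (Set.range fun k => t k ^ M) := fun M => by
    refine Ideal.exists_pow_le_of_le_radical_of_fg (hrad.trans (Ideal.radical_le_radical_iff.2 (Ideal.span_le.2 ?_))) hIfg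
    rintro _ ⟨k, rfl⟩
    exact ⟨M, Ideal.subset_span ⟨k, rfl⟩⟩
  let K' := Ideal.span (Set.range fun k => t k ^ E) * K
  obtain ⟨N, hN⟩ := hpow (E + 1)
  have hK' : K' = ⊥ := by
    refine Submodule.eq_bot_of_le_smul_of_le_jacobson_bot I K' (Ideal.FG.mul (Submodule.fg_span (Set.finite_range _)) hK) ?_ hI
    refine Ideal.mul_le.2 fun a ha x hx => ?_
    induction ha using Submodule.span_induction with
    | mem a ha =>
      obtain ⟨k, rfl⟩ := ha
      have h1 := key (inT k) N x hx
      rw [hts] at h1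
      refine Ideal.mul_mono_left hN h1 |> fun h2 => (Ideal.mul_le.2 fun u hu v hv => ?_) h2
      induction hu using Submodule.span_induction with
      | mem u hu =>
        obtain ⟨k, rfl⟩ := hu
        show t k ^ (E + 1) * v ∈ I • K'
        rw [pow_succ', mul_assoc]
        exact Ideal.mul_mem_mul (ht k) (Ideal.mul_mem_mul (Ideal.subset_span ⟨k, rfl⟩) hv)
      | zero => simp
      | add u w _ _ hu hw => rw [add_mul]; exact add_mem hu hw
      | smul u w _ hw => rw [smul_eq_mul u w, mul_assoc]; exact Ideal.mul_mem_left _ _ hw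
    | zero => simp
    | add u w _ _ hu hw => rw [add_mul]; exact add_mem hu hw
    | smul u w _ hw => rw [smul_eq_mul u w, mul_assoc]; exact Ideal.mul_mem_left _ _ hw
  obtain ⟨N', hN'⟩ := hpow E
  refine ⟨E, fun x hx => ?_⟩
  have h := Ideal.mul_mono_left hN' (key j N' x hx)
  rwa [show Ideal.span (Set.range fun k => t k ^ E) * K = ⊥ from hK', Ideal.mem_bot] at h

/-- Locally generated by one element: the obstructions vanish. -/
theorem testSet_eq_zero {C : Type u} [CommRing C] {n m : ℕ} (φ : Matrix (Fin n) (Fin m) C) (ψ : Matrix (Fin m) (Fin n) C)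
    (s : C) (h : φ * ψ * φ = s • φ) {g : C} (y : Coker φ) (hy : BijAway (LinearMap.toSpanSingleton C (Coker φ) y) g) :
    (∃ k, g ^ k * (φ * ψ).det = 0) ∧ ∀ c d a b, ∃ k, g ^ k * minor (proj φ ψ s) c d a b = 0 := by
  classical
  constructor
  · refine (hy.inj (φ * ψ).det ?_).imp fun k hk => by simpa using hk
    obtain ⟨v, rfl⟩ := Submodule.Quotient.mk_surjective _ y
    show (φ * ψ).det • (Submodule.Quotient.mk v : Coker φ) = 0
    rw [← Submodule.Quotient.mk_smul, Submodule.Quotient.mk_eq_zero]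
    refine ⟨ψ.mulVec ((φ * ψ).adjugate.mulVec v), ?_⟩
    rw [Matrix.mulVecLin_apply, Matrix.mulVec_mulVec, Matrix.mulVec_mulVec, Matrix.mul_adjugate, Matrix.smul_mulVec,
      Matrix.one_mulVec]
  · intro c d a b
    let f : Fin n → (Coker φ →ₗ[C] C) := fun i => (LinearMap.range φ.mulVecLin).liftQ
      ((LinearMap.proj i).comp (proj φ ψ s).mulVecLin) (by
        rintro _ ⟨z, rfl⟩
        rw [LinearMap.mem_ker, LinearMap.comp_apply, Matrix.mulVecLin_apply, Matrix.mulVecLin_apply,
          Matrix.mulVec_mulVec, proj_mul_self h, Matrix.zero_mulVec]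
        rfl)
    have hP : ∀ i e, f i (Submodule.Quotient.mk (Pi.single e 1)) = proj φ ψ s i e := fun i e => by
      show (proj φ ψ s).mulVec (Pi.single e 1) i = _
      rw [Matrix.mulVec_single_one]
      rfl
    obtain ⟨ka, αa, hαa⟩ := hy.surj (Submodule.Quotient.mk (Pi.single a 1))
    obtain ⟨kb, αb, hαb⟩ := hy.surj (Submodule.Quotient.mk (Pi.single b 1))
    have hA : ∀ i, g ^ ka * proj φ ψ s i a = αa * f i y := fun i => by
      have := congrArg (f i) hαa
      rw [LinearMap.toSpanSingleton_apply, map_smul, map_smul, hP, smul_eq_mul, smul_eq_mul] at this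
      exact this.symm
    have hB : ∀ i, g ^ kb * proj φ ψ s i b = αb * f i y := fun i => by
      have := congrArg (f i) hαb
      rw [LinearMap.toSpanSingleton_apply, map_smul, map_smul, hP, smul_eq_mul, smul_eq_mul] at this
      exact this.symm
    refine ⟨ka + kb, ?_⟩
    simp only [minor, mul_sub, pow_add]
    rw [show g ^ ka * g ^ kb * (proj φ ψ s c a * proj φ ψ s d b) =
        (g ^ ka * proj φ ψ s c a) * (g ^ kb * proj φ ψ s d b) by ring,
      show g ^ ka * g ^ kb * (proj φ ψ s c b * proj φ ψ s d a) =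
        (g ^ kb * proj φ ψ s c b) * (g ^ ka * proj φ ψ s d a) by ring, hA, hB, hA, hB]
    ring

/-- The obstructions vanish: locally generated by one free element. -/
theorem exists_bijAway_of_testSet {φ : Matrix (Fin n) (Fin m) B} {ψ : Matrix (Fin m) (Fin n) B} {s : B}
    (h : φ * ψ * φ = s • φ) (q : Ideal B) [q.IsPrime] (hs : s ∉ q) {h₀ : B} (hh₀ : h₀ ∉ q)
    (hd : h₀ * (φ * ψ).det = 0) (hmin : ∀ c d a b, h₀ * minor (proj φ ψ s) c d a b = 0) :
    ∃ (g : B) (y : Coker φ), g ∉ q ∧ BijAway (LinearMap.toSpanSingleton B (Coker φ) y) g := by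
  classical
  let P := proj φ ψ s
  obtain ⟨c, a, hca⟩ : ∃ c a, P c a ∉ q := by
    by_contra! hall
    have h1 : (φ * ψ).map (Ideal.Quotient.mk q) = (s • (1 : Matrix (Fin n) (Fin n) B)).map (Ideal.Quotient.mk q) := by
      rw [← eqMod_iff_map]
      intro i j
      rw [← neg_sub]
      exact neg_mem (hall i j)
    have h2 := congrArg Matrix.det h1
    rw [← RingHom.mapMatrix_apply, ← RingHom.mapMatrix_apply, ← RingHom.map_det, ← RingHom.map_det, Matrix.det_smul,
      Matrix.det_one, mul_one] at h2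
    have h3 : h₀ * (φ * ψ).det ∈ q := hd ▸ q.zero_mem
    have h4 := (‹q.IsPrime›.mem_or_mem h3).resolve_left hh₀
    rw [← Ideal.Quotient.eq_zero_iff_mem, h2, Ideal.Quotient.eq_zero_iff_mem] at h4
    exact hs (‹q.IsPrime›.mem_of_pow_mem _ h4)
  let g := h₀ * P c a * s
  let y : Coker φ := Submodule.Quotient.mk (Pi.single a 1)
  have hgq : g ∉ q := fun hg => (‹q.IsPrime›.mem_or_mem hg).elim
    (fun h' => (‹q.IsPrime›.mem_or_mem h').elim hh₀ hca) hs
  have hPs : ∀ v : Fin n → B, (Submodule.Quotient.mk (P.mulVec v) : Coker φ) = s • Submodule.Quotient.mk v := fun v => by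
    show Submodule.Quotient.mk ((s • (1 : Matrix (Fin n) (Fin n) B) - φ * ψ).mulVec v) = _
    rw [Matrix.sub_mulVec, Matrix.smul_mulVec, Matrix.one_mulVec, Submodule.Quotient.mk_sub,
      Submodule.Quotient.mk_smul, sub_eq_self, Submodule.Quotient.mk_eq_zero, ← Matrix.mulVec_mulVec]
    exact ⟨ψ.mulVec v, rfl⟩
  have hgen : ∀ d, g • (Submodule.Quotient.mk (Pi.single d 1) : Coker φ) = (h₀ * P c d * s) • y := fun d => by
    have hv : (h₀ * P c a) • P.mulVec (Pi.single d 1) = (h₀ * P c d) • P.mulVec (Pi.single a 1) := funext fun b => by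
      rw [Pi.smul_apply, Pi.smul_apply, Matrix.mulVec_single_one, Matrix.mulVec_single_one, smul_eq_mul, smul_eq_mul]
      show h₀ * P c a * P b d = h₀ * P c d * P b a
      have := hmin c b a d
      simp only [minor] at this
      linear_combination this
    have := congrArg (fun v => (Submodule.Quotient.mk v : Coker φ)) hv
    simp only [Submodule.Quotient.mk_smul, hPs, smul_smul] at this
    exact this
  let F : Coker φ →ₗ[B] B := (LinearMap.range φ.mulVecLin).liftQ ((LinearMap.proj c).comp P.mulVecLin) (by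
    rintro _ ⟨z, rfl⟩
    rw [LinearMap.mem_ker, LinearMap.comp_apply, Matrix.mulVecLin_apply, Matrix.mulVecLin_apply,
      Matrix.mulVec_mulVec, proj_mul_self h, Matrix.zero_mulVec]
    rfl)
  have hF : F y = P c a := by
    show P.mulVec (Pi.single a 1) c = _
    rw [Matrix.mulVec_single_one]
    rfl
  refine ⟨g, y, hgq, fun x hx => ⟨1, ?_⟩, fun z => ?_⟩
  · rw [LinearMap.toSpanSingleton_apply] at hx
    have h1 := congrArg F hx
    rw [map_smul, map_zero, hF, smul_eq_mul] at h1
    rw [pow_one, smul_eq_mul]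
    linear_combination h₀ * s * h1
  · obtain ⟨v, rfl⟩ := Submodule.Quotient.mk_surjective _ z
    refine ⟨1, ∑ d, v d * (h₀ * P c d * s), ?_⟩
    rw [LinearMap.toSpanSingleton_apply, Finset.sum_smul, pow_one]
    conv_rhs => rw [pi_eq_sum_univ' v, ← Submodule.mkQ_apply, map_sum, Finset.smul_sum]
    refine Finset.sum_congr rfl fun d _ => ?_
    rw [map_smul, smul_comm g, Submodule.mkQ_apply, hgen, smul_smul]

end Groth.Agent.ParaF26.Elkik
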